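import Mathlib
import Cfsg.Agent.Lib.Lead.CharHallProj

set_option autoImplicit false
set_option maxHeartbeats 1600000

namespace Cfsg.Agent.Lib.Lead

open Cfsg Cfsg.Agent.Lib.Helper2 Cfsg.Agent.S0177
open scoped ComplexConjugate

universe u

/-- The Hall-projection indicator `n · 1_{x^e ~ g}` is a class function with algebraic-integer
coefficients. -/
theorem hall_theta {G : Type u} [Group G] [Fintype G] (m n : ℕ) (hmn : Nat.card G = m * n)
    (hcop : Nat.Coprime m n) (e : ℕ) (hem : e ≡ 0 [MOD m]) (hen : e ≡ 1 [MOD n]) (g : G)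
    (ϑ : G → ℂ) (hθ1 : ∀ x, IsConj (x ^ e) g → ϑ x = n) (hθ0 : ∀ x, ¬ IsConj (x ^ e) g → ϑ x = 0) :
    IsClassFunction G ϑ ∧ ∀ χ : IrrCharacter G, IsIntegral ℤ (classInner ϑ χ) := by
  classical
  have hmn0 : m * n ≠ 0 := by rw [← hmn]; exact Nat.card_pos.ne'
  have hconj : ∀ x h : G, IsConj (h * x * h⁻¹) g ↔ IsConj x g := by
    intro x h
    constructor
    · intro h2; exact (isConj_iff.mpr ⟨h, rfl⟩).trans h2
    · intro h2; exact (isConj_iff.mpr ⟨h, rfl⟩).symm.trans h2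
  have hcl : IsClassFunction G ϑ := by
    intro x h
    have h1 : IsConj ((h * x * h⁻¹) ^ e) g ↔ IsConj (x ^ e) g := by
      rw [conj_pow]; exact hconj _ _
    by_cases hx : IsConj (x ^ e) g
    · rw [hθ1 x hx, hθ1 _ (h1.mpr hx)]
    · rw [hθ0 x hx, hθ0 _ (fun h' => hx (h1.mp h'))]
  refine ⟨hcl, ?_⟩
  apply integral_inner_of_res_elem ϑ hcl
  intro E p hp hE inst ψ
  have hcardE : Nat.card E ∣ m * n := hmn ▸ Subgroup.card_subgroup_dvd_card E
  refine @hall_proj_elem E _ inst p hp hE m n hcop hcardE hmn0 e hem hen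
    {y : E | IsConj (y : G) g} ?_ (fun y : E => ϑ y) ?_ ?_ ψ
  · intro x y
    exact hconj (x : G) (y : G)
  · intro y hy
    exact hθ1 (y : G) hy
  · intro y hy
    exact hθ0 (y : G) hy

/-- A `p`-power root of unity is `≡ 1` modulo a maximal ideal containing `p`. -/
theorem pmod_root_sub_one {p : ℕ} (hp : p.Prime) (M : Ideal AlgInt) (hM : M.IsMaximal)
    (hpM : (p : AlgInt) ∈ M) (ζ : AlgInt) (k : ℕ) (hζ : ζ ^ (p ^ k) = 1) : ζ - 1 ∈ M := by
  have hprime : M.IsPrime := hM.isPrime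
  apply hprime.mem_of_pow_mem (p ^ k)
  obtain ⟨r, hr⟩ := exists_add_pow_prime_pow_eq hp (ζ - 1) 1 k
  rw [sub_add_cancel, hζ, one_pow] at hr
  have h2 : (ζ - 1) ^ (p ^ k) = -((p : AlgInt) * ((ζ - 1) * 1 * r)) := by
    linear_combination -hr
  rw [h2]
  exact M.neg_mem (M.mul_mem_right _ hpM)

/-- A character is an `ℕ`-combination of irreducible characters. -/
theorem isCharacter_eq_nat_sum {A : Type u} [Group A] [Fintype A] [Fintype (IrrCharacter A)]
    {φ : A → ℂ} (hφ : IsCharacter A φ) :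
    ∃ c : IrrCharacter A → ℕ, ∀ x, φ x = ∑ ξ : IrrCharacter A, (c ξ : ℂ) * (ξ : A → ℂ) x := by
  classical
  have h := fun ξ : IrrCharacter A =>
    classInner_isCharacter_nat hφ (isCharacter_of_isIrrCharacter ξ.2)
  choose c hc using h
  refine ⟨c, fun x => ?_⟩
  have hexp := congrFun (expansion φ (isClassFunction_of_isCharacter hφ)) x
  rw [hexp]
  simp only [Finset.sum_apply, Pi.smul_apply, smul_eq_mul, hc]

/-- `χ(a r) ≡ χ(r)` modulo `M` when `a` is a `p`-element commuting with `r`. -/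
theorem char_sub_preg_mem {G : Type u} [Group G] [Fintype G] {p : ℕ} (hp : p.Prime)
    (M : Ideal AlgInt) (hM : M.IsMaximal) (hpM : (p : AlgInt) ∈ M) {χ : G → ℂ}
    (hχ : IsCharacter G χ) (a r : G) (hcomm : Commute a r) (k : ℕ) (ha : a ^ (p ^ k) = 1) :
    ∃ z : AlgInt, z ∈ M ∧ (z : ℂ) = χ (a * r) - χ r := by
  classical
  obtain ⟨A, hA⟩ : ∃ A : Subgroup G, A = Subgroup.closure {a, r} := ⟨_, rfl⟩
  have haA : a ∈ A := by rw [hA]; exact Subgroup.subset_closure (by simp)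
  have hrA : r ∈ A := by rw [hA]; exact Subgroup.subset_closure (by simp)
  have hAcomm : ∀ u v : A, u * v = v * u := by
    have hk : ∀ x ∈ ({a, r} : Set G), ∀ y ∈ ({a, r} : Set G), x * y = y * x := by
      intro x hx y hy
      simp only [Set.mem_insert_iff, Set.mem_singleton_iff] at hx hy
      rcases hx with rfl | rfl <;> rcases hy with rfl | rfl
      · rfl
      · exact hcomm.eq
      · exact hcomm.eq.symm
      · rfl
    subst hA
    intro u v
    exact (Subgroup.isMulCommutative_closure hk).is_comm.comm u v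
  letI : Fintype A := Fintype.ofFinite A
  haveI : Finite (IrrCharacter A) := irr_finite
  letI : Fintype (IrrCharacter A) := Fintype.ofFinite _
  have hφ : IsCharacter A (fun x : A => χ x) := isCharacter_res A hχ
  obtain ⟨c, hc⟩ := isCharacter_eq_nat_sum hφ
  have hlin : ∀ ξ : IrrCharacter A, ∃ lam : A →* ℂˣ, ∀ x, (ξ : A → ℂ) x = (lam x : ℂ) :=
    fun ξ => exists_hom_of_linear ξ.2 (comm_iff_all_degree_one.mp hAcomm ξ)
  choose lam hlam using hlin
  have hint : ∀ (ξ : IrrCharacter A) (x : A), IsIntegral ℤ ((lam ξ x : ℂˣ) : ℂ) := by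
    intro ξ x
    rw [← hlam]
    exact isCharacter_isIntegral (isCharacter_of_isIrrCharacter ξ.2) x
  obtain ⟨u, hu⟩ : ∃ u : IrrCharacter A → AlgInt, ∀ ξ, (u ξ : ℂ) = ((lam ξ ⟨a, haA⟩ : ℂˣ) : ℂ) :=
    ⟨fun ξ => ⟨_, hint ξ ⟨a, haA⟩⟩, fun ξ => rfl⟩
  obtain ⟨w, hw⟩ : ∃ w : IrrCharacter A → AlgInt, ∀ ξ, (w ξ : ℂ) = ((lam ξ ⟨r, hrA⟩ : ℂˣ) : ℂ) :=
    ⟨fun ξ => ⟨_, hint ξ ⟨r, hrA⟩⟩, fun ξ => rfl⟩
  have hu1 : ∀ ξ, u ξ - 1 ∈ M := by
    intro ξ
    apply pmod_root_sub_one hp M hM hpM (u ξ) k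
    apply Subtype.ext
    rw [SubmonoidClass.coe_pow, hu, ← Units.val_pow_eq_pow_val, ← map_pow]
    have : (⟨a, haA⟩ : A) ^ (p ^ k) = 1 := Subtype.ext (by simpa using ha)
    rw [this, map_one]
    rfl
  refine ⟨∑ ξ : IrrCharacter A, (c ξ : AlgInt) * (w ξ * (u ξ - 1)), ?_, ?_⟩
  · exact M.sum_mem (fun ξ _ => M.mul_mem_left _ (M.mul_mem_left _ (hu1 ξ)))
  · have h1 : χ (a * r) = ∑ ξ : IrrCharacter A, (c ξ : ℂ) * ((u ξ : ℂ) * (w ξ : ℂ)) := by
      have := hc (⟨a, haA⟩ * ⟨r, hrA⟩)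
      rw [show χ (a * r) = χ ((⟨a, haA⟩ * ⟨r, hrA⟩ : A) : G) from rfl, this]
      apply Finset.sum_congr rfl
      intro ξ _
      rw [hlam, map_mul, Units.val_mul, hu, hw]
    have h2 : χ r = ∑ ξ : IrrCharacter A, (c ξ : ℂ) * (w ξ : ℂ) := by
      have := hc ⟨r, hrA⟩
      rw [show χ r = χ ((⟨r, hrA⟩ : A) : G) from rfl, this]
      apply Finset.sum_congr rfl
      intro ξ _
      rw [hlam, hw]
    rw [h1, h2, ← Finset.sum_sub_distrib]
    push_cast
    apply Finset.sum_congr rfl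
    intro ξ _
    ring

/-- An element of `M` lies in the local ideal. -/
theorem memLocalIdeal_of_mem (M : Ideal AlgInt) (hM : M.IsMaximal) {z : AlgInt} (hz : z ∈ M) :
    MemLocalIdeal M (z : ℂ) :=
  ⟨z, 1, hz, (Ideal.ne_top_iff_one M).mp hM.ne_top, by simp⟩

/-- The local ideal is closed under subtraction. -/
theorem memLocalIdeal_sub (M : Ideal AlgInt) (hM : M.IsMaximal) {z w : ℂ}
    (hz : MemLocalIdeal M z) (hw : MemLocalIdeal M w) : MemLocalIdeal M (z - w) := by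
  obtain ⟨a, b, ha, hb, rfl⟩ := hz
  obtain ⟨a', b', ha', hb', rfl⟩ := hw
  have hprime : M.IsPrime := hM.isPrime
  have hb0 : (b : ℂ) ≠ 0 := by
    intro h
    apply hb
    have : b = 0 := Subtype.ext h
    rw [this]; exact M.zero_mem
  have hb'0 : (b' : ℂ) ≠ 0 := by
    intro h
    apply hb'
    have : b' = 0 := Subtype.ext h
    rw [this]; exact M.zero_mem
  refine ⟨a * b' - a' * b, b * b', M.sub_mem (M.mul_mem_right _ ha) (M.mul_mem_right _ ha'), ?_, ?_⟩
  · intro h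
    rcases hprime.mem_or_mem h with h | h
    · exact hb h
    · exact hb' h
  · push_cast
    field_simp

/-- An algebraic integer in the local ideal lies in `M`. -/
theorem mem_of_memLocalIdeal (M : Ideal AlgInt) (hM : M.IsMaximal) {z : AlgInt}
    (hz : MemLocalIdeal M (z : ℂ)) : z ∈ M := by
  obtain ⟨a, b, ha, hb, h⟩ := hz
  have hprime : M.IsPrime := hM.isPrime
  have hb0 : (b : ℂ) ≠ 0 := by
    intro h
    apply hb
    have : b = 0 := Subtype.ext h
    rw [this]; exact M.zero_mem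
  have h2 : z * b = a := by
    apply Subtype.ext
    push_cast
    rw [← h]; field_simp
  have h3 : z * b ∈ M := by rw [h2]; exact ha
  rcases hprime.mem_or_mem h3 with h | h
  · exact h
  · exact absurd h hb

end Cfsg.Agent.Lib.Lead
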