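import Mathlib
import Cfsg.Agent.Lib.Lead.CharPMod
import Cfsg.Agent.Lib.Lead.CharCentral2
import Cfsg.Agent.Lib.Lead.CharKer
import Cfsg.Agent.Lib.Lead.CharKerSub
import Cfsg.Agent.Lib.Lead.CharCons
import Cfsg.Agent.Lib.Lead.CharMore

set_option autoImplicit false
set_option maxHeartbeats 1600000

namespace Cfsg.Agent.Lib.Lead

open Cfsg Cfsg.Agent.Lib.Helper2
open scoped ComplexConjugate

universe u

/-- Averaging an irreducible character over the cosets of a normal subgroup either fixes it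
or kills it. -/
theorem normal_avg_irr {A : Type u} [Group A] [Finite A] (K : Subgroup A) [hK : K.Normal]
    [Fintype K] (η : IrrCharacter A) :
    ∃ s : ℕ, (s = 0 ∨ s = 1) ∧ ∀ g : A, ∑ k : K, (η : A → ℂ) ((k : A) * g) =
      (s : ℂ) * (Fintype.card K : ℂ) * (η : A → ℂ) g := by
  obtain ⟨n, ρ, hirr, hρ⟩ := η.2
  haveI := hirr
  obtain ⟨T, hT⟩ : ∃ T : (Fin n → ℂ) →ₗ[ℂ] (Fin n → ℂ), T = ∑ k : K, ρ (k : A) := ⟨_, rfl⟩
  have hcomm : ∀ g : A, T * ρ g = ρ g * T := by
    intro g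
    rw [hT, Finset.sum_mul, Finset.mul_sum]
    symm
    refine Fintype.sum_equiv (MulAut.conjNormal g : K ≃* K).toEquiv _ _ ?_
    intro k
    show ρ g * ρ (k : A) = ρ ((MulAut.conjNormal g k : K) : A) * ρ g
    rw [MulAut.conjNormal_apply, ← map_mul, ← map_mul]
    congr 1
    group
  obtain ⟨t, ht⟩ := schur_scalar ρ T (fun g v => by
    have := congrArg (fun f : (Fin n → ℂ) →ₗ[ℂ] (Fin n → ℂ) => f v) (hcomm g)
    simpa using this)
  have hsq : T * T = (Fintype.card K : ℂ) • T := by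
    have h1 : ∀ k : K, ρ (k : A) * T = T := by
      intro k
      rw [hT, Finset.mul_sum]
      refine Fintype.sum_equiv (Equiv.mulLeft k) _ _ ?_
      intro k'
      show ρ (k : A) * ρ (k' : A) = ρ ((k * k' : K) : A)
      rw [← map_mul]; rfl
    calc T * T = (∑ k : K, ρ (k : A)) * T := by rw [← hT]
      _ = ∑ k : K, ρ (k : A) * T := Finset.sum_mul _ _ _
      _ = ∑ _k : K, T := Finset.sum_congr rfl (fun k _ => h1 k)
      _ = (Fintype.card K : ℂ) • T := by
        simp [Finset.sum_const, Finset.card_univ, Nat.cast_smul_eq_nsmul]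
  have hpos := finrank_pos_of_irreducible ρ
  have h2 : (Module.finrank ℂ (Fin n → ℂ) : ℂ) ≠ 0 := by exact_mod_cast hpos.ne'
  have ht2 : t * t = (Fintype.card K : ℂ) * t := by
    rw [ht] at hsq
    rw [smul_mul_smul_comm, smul_smul] at hsq
    have h3 := congrArg (LinearMap.trace ℂ (Fin n → ℂ)) hsq
    rw [show (LinearMap.id : (Fin n → ℂ) →ₗ[ℂ] (Fin n → ℂ)) * LinearMap.id = LinearMap.id from rfl] at h3
    simp only [map_smul, LinearMap.trace_id, smul_eq_mul] at h3
    exact mul_right_cancel₀ h2 h3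
  have hval : ∀ g : A, ∑ k : K, (η : A → ℂ) ((k : A) * g) = t * (η : A → ℂ) g := by
    intro g
    rw [← hρ]
    show ∑ k : K, LinearMap.trace ℂ (Fin n → ℂ) (ρ ((k : A) * g)) = t * LinearMap.trace ℂ (Fin n → ℂ) (ρ g)
    have h6 : ∑ k : K, LinearMap.trace ℂ (Fin n → ℂ) (ρ ((k : A) * g)) =
        LinearMap.trace ℂ (Fin n → ℂ) (T * ρ g) := by
      rw [hT, Finset.sum_mul, map_sum]
      apply Finset.sum_congr rfl
      intro k _
      rw [map_mul]
    rw [h6, ht]
    have h7 : (t • (LinearMap.id : (Fin n → ℂ) →ₗ[ℂ] (Fin n → ℂ))) * ρ g = t • ρ g := by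
      ext v; simp
    rw [h7, map_smul, smul_eq_mul]
  have ht3 : t = 0 ∨ t = (Fintype.card K : ℂ) := by
    by_cases h0 : t = 0
    · exact Or.inl h0
    · right
      exact mul_right_cancel₀ h0 ht2
  rcases ht3 with h0 | h0
  · refine ⟨0, Or.inl rfl, fun g => ?_⟩
    rw [hval g, h0]; simp
  · refine ⟨1, Or.inr rfl, fun g => ?_⟩
    rw [hval g, h0]; simp


/-- If a character is not invariant under averaging over a normal subgroup, the non-invariant
part has norm at least one. -/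
theorem normal_avg_norm_ge {A : Type u} [Group A] [Fintype A] (K : Subgroup A) [hK : K.Normal]
    [Fintype K] {φ : A → ℂ} (hφ : IsCharacter A φ)
    (hne : ∃ g : A, φ g ≠ (Fintype.card K : ℂ)⁻¹ * ∑ k : K, φ ((k : A) * g)) :
    (Fintype.card A : ℝ) ≤
      ∑ g : A, Complex.normSq (φ g - (Fintype.card K : ℂ)⁻¹ * ∑ k : K, φ ((k : A) * g)) := by
  classical
  haveI : Finite (IrrCharacter A) := irr_finite
  letI : Fintype (IrrCharacter A) := Fintype.ofFinite _
  obtain ⟨m, hm⟩ := isCharacter_eq_nat_sum hφ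
  choose s hs01 hs using fun ξ : IrrCharacter A => normal_avg_irr K ξ
  have hK0 : (Fintype.card K : ℂ) ≠ 0 := by exact_mod_cast Fintype.card_ne_zero
  have h1 : ∀ g : A, φ g - (Fintype.card K : ℂ)⁻¹ * ∑ k : K, φ ((k : A) * g) =
      ∑ ξ : IrrCharacter A, ((m ξ * (1 - s ξ) : ℕ) : ℂ) * (ξ : A → ℂ) g := by
    intro g
    have h2 : ∑ k : K, φ ((k : A) * g) = ∑ ξ : IrrCharacter A,
        (m ξ : ℂ) * ((s ξ : ℂ) * (Fintype.card K : ℂ) * (ξ : A → ℂ) g) := by
      simp_rw [hm]
      rw [Finset.sum_comm]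
      apply Finset.sum_congr rfl
      intro ξ _
      rw [← Finset.mul_sum, hs ξ g]
    rw [h2, hm g, Finset.mul_sum, ← Finset.sum_sub_distrib]
    apply Finset.sum_congr rfl
    intro ξ _
    rcases hs01 ξ with h0 | h0
    · rw [h0]; simp
    · rw [h0]; simp; field_simp; ring
  obtain ⟨φ₁, hφ₁⟩ : ∃ φ₁ : A → ℂ, φ₁ = ∑ ξ : IrrCharacter A,
      ((m ξ * (1 - s ξ) : ℕ) : ℂ) • (ξ : A → ℂ) := ⟨_, rfl⟩
  have hφ₁' : ∀ g, φ₁ g = φ g - (Fintype.card K : ℂ)⁻¹ * ∑ k : K, φ ((k : A) * g) := by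
    intro g
    rw [h1 g, hφ₁]
    simp
  have hchar : IsCharacter A φ₁ := by
    rw [hφ₁]
    apply isCharacter_sum
    intro ξ _
    exact isCharacter_natCast_smul _ (isCharacter_of_isIrrCharacter ξ.2)
  have hinner : ∀ ψ : IrrCharacter A, classInner φ₁ ψ = ((m ψ * (1 - s ψ) : ℕ) : ℂ) := by
    intro ψ
    rw [hφ₁, classInner_sum_left]
    simp_rw [classInner_smul_left]
    rw [Finset.sum_eq_single ψ]
    · rw [irr_orthonormal ψ.2 ψ.2]; simp
    · intro ξ _ hne'
      rw [irr_orthonormal ξ.2 ψ.2, if_neg (fun h => hne' (Subtype.ext h))]; simp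
    · intro h; exact absurd (Finset.mem_univ _) h
  have hnorm := classInner_self_eq_sum_sq hchar (fun ψ => m ψ * (1 - s ψ)) hinner
  have hpos : 1 ≤ ∑ ψ : IrrCharacter A, (m ψ * (1 - s ψ)) ^ 2 := by
    by_contra hlt
    have h0 : ∑ ψ : IrrCharacter A, (m ψ * (1 - s ψ)) ^ 2 = 0 := by omega
    have h0' : ∀ ψ : IrrCharacter A, m ψ * (1 - s ψ) = 0 := by
      intro ψ
      have := (Finset.sum_eq_zero_iff.mp h0) ψ (Finset.mem_univ _)
      exact (pow_eq_zero_iff (two_ne_zero)).mp this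
    obtain ⟨g, hg⟩ := hne
    apply hg
    have h5 := h1 g
    have h8 : ∑ ξ : IrrCharacter A, ((m ξ * (1 - s ξ) : ℕ) : ℂ) * (ξ : A → ℂ) g = 0 :=
      Finset.sum_eq_zero (fun ξ _ => by rw [h0' ξ]; simp)
    rw [h8] at h5
    exact sub_eq_zero.mp h5
  have hsum : ∑ g : A, Complex.normSq (φ₁ g) = (Fintype.card A : ℝ) *
      ((∑ ψ : IrrCharacter A, (m ψ * (1 - s ψ)) ^ 2 : ℕ) : ℝ) := by
    have h3 : classInner φ₁ φ₁ = (Nat.card A : ℂ)⁻¹ * ∑ g : A, φ₁ g * conj (φ₁ g) := rfl
    rw [hnorm] at h3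
    have hA0 : (Fintype.card A : ℂ) ≠ 0 := by exact_mod_cast Fintype.card_ne_zero
    have h4 : ((∑ g : A, Complex.normSq (φ₁ g) : ℝ) : ℂ) = (Fintype.card A : ℂ) *
        ((∑ ψ : IrrCharacter A, (m ψ * (1 - s ψ)) ^ 2 : ℕ) : ℂ) := by
      rw [h3, Nat.card_eq_fintype_card]
      push_cast
      simp_rw [Complex.mul_conj]
      field_simp
    exact_mod_cast h4
  simp_rw [← hφ₁']
  rw [hsum]
  have h6 : (1 : ℝ) ≤ ((∑ ψ : IrrCharacter A, (m ψ * (1 - s ψ)) ^ 2 : ℕ) : ℝ) := by
    exact_mod_cast hpos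
  have h7 : (0 : ℝ) ≤ (Fintype.card A : ℝ) := Nat.cast_nonneg _
  nlinarith


/-- A conjugation-invariant weight summed over a "TI" set. -/
theorem ti_sum_le {G : Type u} [Group G] [Fintype G] (N : Subgroup G) (D Z : G → Prop)
    [DecidablePred D] [DecidablePred Z]
    (q : G → ℝ) (hq0 : ∀ g, 0 ≤ q g) (hqc : ∀ a g : G, q (a⁻¹ * g * a) = q g)
    (hDZ : ∀ g a : G, Z g → ¬ D (a⁻¹ * g * a))
    (hDN : ∀ g c : G, D g → D (c⁻¹ * g * c) → c ∈ N) :
    (Fintype.card G : ℝ) * ∑ g : G, (if D g then q g else 0) ≤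
      (Nat.card N : ℝ) * ∑ g : G, (if Z g then 0 else q g) := by
  classical
  have h1 : (Fintype.card G : ℝ) * ∑ g : G, (if D g then q g else 0) =
      ∑ a : G, ∑ x : G, (if D (a⁻¹ * x * a) then q x else 0) := by
    rw [← Finset.card_univ, ← nsmul_eq_mul, ← Finset.sum_const]
    apply Finset.sum_congr rfl
    intro a _
    symm
    refine Fintype.sum_equiv (MulAut.conj a⁻¹).toEquiv _ _ ?_
    intro x
    show (if D (a⁻¹ * x * a) then q x else 0) =
      if D (MulAut.conj a⁻¹ x) then q (MulAut.conj a⁻¹ x) else 0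
    rw [MulAut.conj_apply, inv_inv, hqc]
  have hNc : Nat.card N = (Finset.univ.filter (fun a : G => a ∈ N)).card := by
    rw [← Nat.card_eq_finsetCard]
    exact Nat.card_congr (Equiv.subtypeEquivRight (fun a => by simp))
  rw [h1, Finset.sum_comm, Finset.mul_sum]
  apply Finset.sum_le_sum
  intro x _
  by_cases hZx : Z x
  · rw [if_pos hZx, mul_zero]
    apply le_of_eq
    apply Finset.sum_eq_zero
    intro a _
    rw [if_neg (hDZ x a hZx)]
  · rw [if_neg hZx]
    have h2 : ∑ a : G, (if D (a⁻¹ * x * a) then q x else 0) =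
        ((Finset.univ.filter (fun a : G => D (a⁻¹ * x * a))).card : ℝ) * q x := by
      rw [← Finset.sum_filter, Finset.sum_const, nsmul_eq_mul]
    rw [h2]
    apply mul_le_mul_of_nonneg_right _ (hq0 x)
    rw [hNc]
    norm_cast
    by_cases hemp : (Finset.univ.filter (fun a : G => D (a⁻¹ * x * a))) = ∅
    · rw [hemp]; simp
    · obtain ⟨b, hb⟩ := Finset.nonempty_iff_ne_empty.mpr hemp
      rw [Finset.mem_filter] at hb
      apply Finset.card_le_card_of_injOn (fun a => b⁻¹ * a)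
      · intro a ha
        have ha' : D (a⁻¹ * x * a) := by simpa using ha
        simp only [Finset.coe_filter, Finset.mem_univ, true_and, Set.mem_ofPred_eq]
        apply hDN (b⁻¹ * x * b) (b⁻¹ * a) hb.2
        have : (b⁻¹ * a)⁻¹ * (b⁻¹ * x * b) * (b⁻¹ * a) = a⁻¹ * x * a := by group
        rw [this]; exact ha'
      · intro a _ a' _ h
        exact mul_left_cancel h

/-- Splitting the norm over a union of cosets into the averaged and the non-averaged part. -/
theorem coset_avg_split {G : Type u} [Group G] [Fintype G] (H : Subgroup G) [Fintype H]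
    (T : G → Prop) [DecidablePred T] (hT : ∀ (h : H) (g : G), T ((h : G) * g) ↔ T g) (f : G → ℂ) :
    ∑ g : G, (if T g then Complex.normSq (f g) else 0) =
      ∑ g : G, (if T g then
        Complex.normSq ((Fintype.card H : ℂ)⁻¹ * ∑ h : H, f ((h : G) * g)) else 0) +
      ∑ g : G, (if T g then
        Complex.normSq (f g - (Fintype.card H : ℂ)⁻¹ * ∑ h : H, f ((h : G) * g)) else 0) := by
  classical
  have hH0 : (Fintype.card H : ℝ) ≠ 0 := by exact_mod_cast Fintype.card_ne_zero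
  have hH0' : (Fintype.card H : ℂ) ≠ 0 := by exact_mod_cast Fintype.card_ne_zero
  obtain ⟨f₀, hf₀⟩ : ∃ f₀ : G → ℂ,
      f₀ = fun g => (Fintype.card H : ℂ)⁻¹ * ∑ h : H, f ((h : G) * g) := ⟨_, rfl⟩
  have hinv : ∀ (h : H) (g : G), f₀ ((h : G) * g) = f₀ g := by
    intro h g
    rw [hf₀]
    show (Fintype.card H : ℂ)⁻¹ * ∑ h' : H, f ((h' : G) * ((h : G) * g)) = _
    congr 1
    refine Fintype.sum_equiv (Equiv.mulRight h) _ _ ?_
    intro h'
    show f ((h' : G) * ((h : G) * g)) = f (((h' * h : H) : G) * g)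
    rw [Subgroup.coe_mul, mul_assoc]
  have havg : ∀ F : G → ℝ, ∑ g : G, (if T g then ∑ h : H, F ((h : G) * g) else 0) =
      (Fintype.card H : ℝ) * ∑ g : G, (if T g then F g else 0) := by
    intro F
    have h1 : ∀ g : G, (if T g then ∑ h : H, F ((h : G) * g) else 0) =
        ∑ h : H, (if T ((h : G) * g) then F ((h : G) * g) else 0) := by
      intro g
      by_cases hg : T g
      · rw [if_pos hg]; apply Finset.sum_congr rfl; intro h _; rw [if_pos ((hT h g).mpr hg)]
      · rw [if_neg hg]; symm; apply Finset.sum_eq_zero; intro h _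
        rw [if_neg (fun h' => hg ((hT h g).mp h'))]
    simp_rw [h1]
    rw [Finset.sum_comm, ← Finset.card_univ, ← nsmul_eq_mul, ← Finset.sum_const]
    apply Finset.sum_congr rfl
    intro h _
    exact Fintype.sum_equiv (Equiv.mulLeft (h : G)) _ _ (fun g => rfl)
  have hpt : ∀ g : G, ∑ h : H, Complex.normSq (f ((h : G) * g)) =
      (Fintype.card H : ℝ) * Complex.normSq (f₀ g) +
        ∑ h : H, Complex.normSq (f ((h : G) * g) - f₀ ((h : G) * g)) := by
    intro g
    have hz : ∑ h : H, (f ((h : G) * g) - f₀ g) = 0 := by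
      rw [Finset.sum_sub_distrib, Finset.sum_const, Finset.card_univ, nsmul_eq_mul]
      rw [hf₀]
      field_simp
      ring
    have h1 : ∀ h : H, Complex.normSq (f ((h : G) * g)) = Complex.normSq (f₀ g) +
        Complex.normSq (f ((h : G) * g) - f₀ g) +
        2 * (f₀ g * conj (f ((h : G) * g) - f₀ g)).re := by
      intro h
      rw [← Complex.normSq_add]
      congr 1; ring
    simp_rw [h1, hinv]
    rw [Finset.sum_add_distrib, Finset.sum_add_distrib, Finset.sum_const, Finset.card_univ,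
      nsmul_eq_mul]
    have h2 : ∑ h : H, 2 * (f₀ g * conj (f ((h : G) * g) - f₀ g)).re = 0 := by
      rw [← Finset.mul_sum, ← Complex.re_sum, ← Finset.mul_sum, ← map_sum, hz]; simp
    rw [h2]; ring
  have e1 := havg (fun g => Complex.normSq (f g))
  have e2 := havg (fun g => Complex.normSq (f g - f₀ g))
  have e3 : ∑ g : G, (if T g then ∑ h : H, Complex.normSq (f ((h : G) * g)) else 0) =
      (Fintype.card H : ℝ) * ∑ g : G, (if T g then Complex.normSq (f₀ g) else 0) +
      ∑ g : G, (if T g then ∑ h : H, Complex.normSq (f ((h : G) * g) - f₀ ((h : G) * g))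
        else 0) := by
    rw [Finset.mul_sum, ← Finset.sum_add_distrib]
    apply Finset.sum_congr rfl
    intro g _
    by_cases hg : T g
    · simp only [if_pos hg]; exact hpt g
    · simp only [if_neg hg]; simp
  have key : (Fintype.card H : ℝ) * ∑ g : G, (if T g then Complex.normSq (f g) else 0) =
      (Fintype.card H : ℝ) * (∑ g : G, (if T g then Complex.normSq (f₀ g) else 0) +
        ∑ g : G, (if T g then Complex.normSq (f g - f₀ g) else 0)) := by
    rw [← e1, e3, mul_add, ← e2]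
  have key2 := mul_left_cancel₀ hH0 key
  rw [hf₀] at key2
  exact key2

/-- A class function is constant on the coset `H g` when `g` normalizes `H` and acts on it
without fixed points. -/
theorem classfn_const_on_coset {G : Type u} [Group G] (H : Subgroup G) [Finite H] (f : G → ℂ)
    (hf : IsClassFunction G f) (g : G) (hg : g ∈ Subgroup.normalizer (H : Set G))
    (hfree : ∀ h ∈ H, h * g = g * h → h = 1) : ∀ h ∈ H, f (h * g) = f g := by
  have hmem : ∀ k : H, (k : G) * g * (k : G)⁻¹ * g⁻¹ ∈ H := by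
    intro k
    have h1 : g * (k : G)⁻¹ * g⁻¹ ∈ H :=
      (Subgroup.mem_normalizer_iff.mp hg _).mp (H.inv_mem k.2)
    have : (k : G) * g * (k : G)⁻¹ * g⁻¹ = (k : G) * (g * (k : G)⁻¹ * g⁻¹) := by group
    rw [this]; exact H.mul_mem k.2 h1
  let F : H → H := fun k => ⟨(k : G) * g * (k : G)⁻¹ * g⁻¹, hmem k⟩
  have hinj : Function.Injective F := by
    intro k k' hkk
    have h1 : (k : G) * g * (k : G)⁻¹ * g⁻¹ = (k' : G) * g * (k' : G)⁻¹ * g⁻¹ :=
      congrArg Subtype.val hkk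
    have h3 : (k : G) * g * (k : G)⁻¹ = (k' : G) * g * (k' : G)⁻¹ := mul_right_cancel h1
    have h2 : ((k' : G)⁻¹ * k) * g = g * ((k' : G)⁻¹ * k) := by
      calc ((k' : G)⁻¹ * k) * g = (k' : G)⁻¹ * ((k : G) * g * (k : G)⁻¹) * k := by group
        _ = (k' : G)⁻¹ * ((k' : G) * g * (k' : G)⁻¹) * k := by rw [h3]
        _ = g * ((k' : G)⁻¹ * k) := by group
    have h4 := hfree _ (H.mul_mem (H.inv_mem k'.2) k.2) h2
    exact Subtype.ext (inv_mul_eq_one.mp h4).symm
  have hsurj : Function.Surjective F := Finite.surjective_of_injective hinj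
  intro h hh
  obtain ⟨k, hk⟩ := hsurj ⟨h, hh⟩
  have h5 : h = (k : G) * g * (k : G)⁻¹ * g⁻¹ := (congrArg Subtype.val hk).symm
  have h6 : h * g = (k : G) * g * (k : G)⁻¹ := by rw [h5]; group
  rw [h6]; exact hf g k

/-- Central elements act on an irreducible character by a scalar of absolute value one. -/
theorem irr_central_unit {G : Type u} [Group G] [Finite G] (χ : IrrCharacter G) (z : G)
    (hz : z ∈ Subgroup.center G) :
    ∃ c : ℂ, ‖c‖ = 1 ∧ ∀ g : G, (χ : G → ℂ) (g * z) = c * (χ : G → ℂ) g := by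
  obtain ⟨c, hc⟩ := irr_central_scalar χ z hz
  refine ⟨c, ?_, hc⟩
  have hpow : ∀ k : ℕ, ∀ g : G, (χ : G → ℂ) (g * z ^ k) = c ^ k * (χ : G → ℂ) g := by
    intro k
    induction k with
    | zero => intro g; simp
    | succ k ih => intro g; rw [pow_succ, ← mul_assoc, hc, ih, pow_succ]; ring
  have h1 := hpow (orderOf z) 1
  rw [pow_orderOf_eq_one, mul_one] at h1
  have hne : (χ : G → ℂ) 1 ≠ 0 := by
    rw [isIrrCharacter_one_eq_charDegree χ.2]
    exact_mod_cast (charDegree_pos_of_irr χ.2).ne'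
  have h2 : c ^ orderOf z = 1 := by
    have : c ^ orderOf z * (χ : G → ℂ) 1 = 1 * (χ : G → ℂ) 1 := by rw [one_mul]; exact h1.symm
    exact mul_right_cancel₀ hne this
  exact Complex.norm_eq_one_of_pow_eq_one h2 (orderOf_pos z).ne'


/-- The elements commuting with some non-identity element of `H`. -/
def ftT {G : Type u} [Group G] (H : Subgroup G) (g : G) : Prop :=
  ∃ h ∈ H, h ≠ 1 ∧ h * g = g * h

/-- The Feit–Thompson bound `χ(1)² > |H| c²`. -/
theorem ft_abelian_bound {G : Type u} [Group G] [Fintype G] (H : Subgroup G) [Fintype H]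
    (hab : ∀ a ∈ H, ∀ b ∈ H, a * b = b * a) (hZ : H ⊓ Subgroup.center G = ⊥)
    (hone : ∀ g : G, g ∉ Subgroup.center G → ∀ a b : G,
      Subgroup.centralizer ({g} : Set G) ⊓ H.map (MulAut.conj a).toMonoidHom ≠ ⊥ →
      Subgroup.centralizer ({g} : Set G) ⊓ H.map (MulAut.conj b).toMonoidHom ≠ ⊥ →
      H.map (MulAut.conj a).toMonoidHom = H.map (MulAut.conj b).toMonoidHom)
    (χ : G → ℂ) (hχ : IsIrrCharacter G χ) (hker : ∃ h ∈ H, χ h ≠ χ 1) :
    (χ 1).re ^ 2 > (Nat.card H : ℝ) *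
      (classInner (fun h : H => χ h) (fun _ => 1)).re ^ 2 := by
  classical
  obtain ⟨N, hN⟩ : ∃ N : Subgroup G, N = Subgroup.normalizer (H : Set G) := ⟨_, rfl⟩
  have hcf : IsClassFunction G χ :=
    isClassFunction_of_isCharacter (isCharacter_of_isIrrCharacter hχ)
  obtain ⟨h0, hh0, hh0χ⟩ := hker
  have hh01 : h0 ≠ 1 := fun h => hh0χ (by rw [h])
  have hconj1 : H.map (MulAut.conj (1 : G)).toMonoidHom = H := by
    ext x; simp
  have hDN : ∀ g c : G, (ftT H g ∧ g ∉ Subgroup.center G) →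
      (ftT H (c⁻¹ * g * c) ∧ c⁻¹ * g * c ∉ Subgroup.center G) → c ∈ N := by
    rintro g c ⟨⟨h, hh, hh1, hhg⟩, hgZ⟩ ⟨⟨h', hh', hh'1, hh'g⟩, -⟩
    have e1 : Subgroup.centralizer ({g} : Set G) ⊓ H.map (MulAut.conj (1 : G)).toMonoidHom ≠ ⊥ := by
      intro hbot
      have : h ∈ Subgroup.centralizer ({g} : Set G) ⊓ H.map (MulAut.conj (1 : G)).toMonoidHom := by
        rw [hconj1]
        refine Subgroup.mem_inf.mpr ⟨?_, hh⟩
        rw [Subgroup.mem_centralizer_iff]
        intro y hy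
        rw [Set.mem_singleton_iff] at hy
        rw [hy]; exact hhg.symm
      rw [hbot, Subgroup.mem_bot] at this
      exact hh1 this
    have e2 : Subgroup.centralizer ({g} : Set G) ⊓ H.map (MulAut.conj c).toMonoidHom ≠ ⊥ := by
      intro hbot
      have : c * h' * c⁻¹ ∈
          Subgroup.centralizer ({g} : Set G) ⊓ H.map (MulAut.conj c).toMonoidHom := by
        refine Subgroup.mem_inf.mpr ⟨?_, ?_⟩
        · rw [Subgroup.mem_centralizer_iff]
          intro y hy
          rw [Set.mem_singleton_iff] at hy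
          rw [hy]
          have : g * (c * h' * c⁻¹) = c * (c⁻¹ * g * c * h') * c⁻¹ := by group
          rw [this, ← hh'g]; group
        · exact ⟨h', hh', rfl⟩
      rw [hbot, Subgroup.mem_bot] at this
      apply hh'1
      have h2 : h' = c⁻¹ * (c * h' * c⁻¹) * c := by group
      rw [h2, this]; group
    have e3 := hone g hgZ c 1 e2 e1
    rw [hconj1] at e3
    rw [hN, Subgroup.mem_normalizer_iff]
    intro x
    constructor
    · intro hx
      rw [← e3]; exact ⟨x, hx, rfl⟩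
    · intro hx
      rw [← e3] at hx
      obtain ⟨y, hy, hyx⟩ := hx
      have : y = x := by
        have h3 : c * y * c⁻¹ = c * x * c⁻¹ := hyx
        exact mul_left_cancel (mul_right_cancel h3)
      rw [← this]; exact hy
  have hDT : ∀ g, (ftT H g ∧ g ∉ Subgroup.center G) → g ∈ N := by
    intro g hg
    apply hDN g g hg
    have : g⁻¹ * g * g = g := by group
    rw [this]; exact hg
  have hcenN : ∀ g, g ∈ Subgroup.center G → g ∈ N := by
    intro g hg
    rw [hN, Subgroup.mem_normalizer_iff]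
    intro x
    have : g * x * g⁻¹ = x := by
      rw [← Subgroup.mem_center_iff.mp hg x]
      group
    rw [this]
  have hTN : ∀ g, ftT H g → g ∈ N := fun g hg => by
    by_cases hz : g ∈ Subgroup.center G
    · exact hcenN g hz
    · exact hDT g ⟨hg, hz⟩
  have hHN : H ≤ N := by rw [hN]; exact Subgroup.le_normalizer
  have hTZ : ∀ g, g ∈ Subgroup.center G → ftT H g := fun g hg =>
    ⟨h0, hh0, hh01, Subgroup.mem_center_iff.mp hg h0⟩
  have hTH : ∀ (h : H) (g : G), ftT H ((h : G) * g) ↔ ftT H g := by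
    intro h g
    constructor
    · rintro ⟨k, hk, hk1, hkg⟩
      refine ⟨k, hk, hk1, ?_⟩
      have e := hab k hk h h.2
      have : (h : G) * (k * g) = (h : G) * (g * k) := by
        calc (h : G) * (k * g) = (k * h) * g := by rw [e, mul_assoc]
          _ = k * (h * g) := mul_assoc _ _ _
          _ = h * g * k := hkg
          _ = h * (g * k) := mul_assoc _ _ _
      exact mul_left_cancel this
    · rintro ⟨k, hk, hk1, hkg⟩
      refine ⟨k, hk, hk1, ?_⟩
      have e := hab k hk h h.2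
      calc k * ((h : G) * g) = (k * h) * g := (mul_assoc _ _ _).symm
        _ = (h * k) * g := by rw [e]
        _ = h * (k * g) := mul_assoc _ _ _
        _ = h * (g * k) := by rw [hkg]
        _ = h * g * k := (mul_assoc _ _ _).symm
  -- degree
  have hn : χ 1 = (charDegree χ : ℂ) := isIrrCharacter_one_eq_charDegree hχ
  have hnpos : 0 < charDegree χ := charDegree_pos_of_irr hχ
  obtain ⟨n, hn'⟩ : ∃ n : ℝ, n = (charDegree χ : ℝ) := ⟨_, rfl⟩
  have hnre : (χ 1).re = n := by rw [hn, hn']; simp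
  have hn0 : 0 < n := by rw [hn']; exact_mod_cast hnpos
  have hG0 : (Fintype.card G : ℂ) ≠ 0 := by exact_mod_cast Fintype.card_ne_zero
  have hqsum : ∑ g : G, Complex.normSq (χ g) = (Fintype.card G : ℝ) := by
    have h1 : classInner χ χ = 1 := by rw [irr_orthonormal hχ hχ, if_pos rfl]
    have h2 : classInner χ χ = (Nat.card G : ℂ)⁻¹ * ∑ g : G, χ g * conj (χ g) := rfl
    rw [h1, Nat.card_eq_fintype_card] at h2
    have h3 : ((∑ g : G, Complex.normSq (χ g) : ℝ) : ℂ) = (Fintype.card G : ℂ) := by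
      push_cast
      simp_rw [← Complex.mul_conj]
      field_simp at h2
      exact h2.symm
    exact_mod_cast h3
  have hqZ : ∀ z, z ∈ Subgroup.center G → Complex.normSq (χ z) = n ^ 2 := by
    intro z hz
    obtain ⟨c, hc1, hc⟩ := irr_central_unit ⟨χ, hχ⟩ z hz
    have h1 : χ z = c * χ 1 := by have := hc 1; rwa [one_mul] at this
    rw [h1, Complex.normSq_mul, Complex.normSq_eq_norm_sq, hc1, hn, Complex.normSq_natCast, hn']
    ring
  -- upper bound
  have hU := ti_sum_le N (fun g => ftT H g ∧ g ∉ Subgroup.center G)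
    (fun g => g ∈ Subgroup.center G) (fun g => Complex.normSq (χ g))
    (fun g => Complex.normSq_nonneg _)
    (fun a g => by
      have := hcf g a⁻¹
      rw [inv_inv] at this
      show Complex.normSq (χ (a⁻¹ * g * a)) = Complex.normSq (χ g)
      rw [this])
    (fun g a hz hD => hD.2 (by
      have : a⁻¹ * g * a = g := by
        rw [mul_assoc, ← Subgroup.mem_center_iff.mp hz a, inv_mul_cancel_left]
      rw [this]; exact hz))
    hDN
  -- the central sum
  obtain ⟨cZ, hcZ⟩ : ∃ cZ : ℝ, cZ = (Nat.card (Subgroup.center G) : ℝ) := ⟨_, rfl⟩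
  have hcZpos : 0 < cZ := by rw [hcZ]; exact_mod_cast Nat.card_pos
  have hSZ : ∑ g : G, (if g ∈ Subgroup.center G then Complex.normSq (χ g) else 0) =
      cZ * n ^ 2 := by
    have hZc : Nat.card (Subgroup.center G) =
        (Finset.univ.filter (fun a : G => a ∈ Subgroup.center G)).card := by
      rw [← Nat.card_eq_finsetCard]
      exact Nat.card_congr (Equiv.subtypeEquivRight (fun a => by simp))
    rw [← Finset.sum_filter, Finset.sum_congr rfl (fun g hg => hqZ g (Finset.mem_filter.mp hg).2),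
      Finset.sum_const, nsmul_eq_mul, hcZ, hZc]
  have hsplitZ : ∑ g : G, (if g ∈ Subgroup.center G then 0 else Complex.normSq (χ g)) =
      (Fintype.card G : ℝ) - cZ * n ^ 2 := by
    rw [← hSZ, ← hqsum, eq_sub_iff_add_eq, ← Finset.sum_add_distrib]
    apply Finset.sum_congr rfl
    intro g _
    split_ifs <;> simp
  have hsplitT : ∑ g : G, (if ftT H g then Complex.normSq (χ g) else 0) =
      ∑ g : G, (if (ftT H g ∧ g ∉ Subgroup.center G) then Complex.normSq (χ g) else 0) +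
        cZ * n ^ 2 := by
    rw [← hSZ, ← Finset.sum_add_distrib]
    apply Finset.sum_congr rfl
    intro g _
    by_cases hz : g ∈ Subgroup.center G
    · rw [if_pos (hTZ g hz), if_neg (fun h => h.2 hz), if_pos hz, zero_add]
    · by_cases ht : ftT H g
      · rw [if_pos ht, if_pos ⟨ht, hz⟩, if_neg hz, add_zero]
      · rw [if_neg ht, if_neg (fun h => ht h.1), if_neg hz, add_zero]
  -- lower bound
  have hB := coset_avg_split H (ftT H) hTH χ
  have hH0' : (Fintype.card H : ℂ) ≠ 0 := by exact_mod_cast Fintype.card_ne_zero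
  obtain ⟨ψ₀, hψ₀⟩ : ∃ ψ₀ : G → ℂ,
      ψ₀ = fun g => (Fintype.card H : ℂ)⁻¹ * ∑ h : H, χ ((h : G) * g) := ⟨_, rfl⟩
  have hψ₀H : ∀ (h : H) (g : G), ψ₀ ((h : G) * g) = ψ₀ g := by
    intro h g
    rw [hψ₀]
    show (Fintype.card H : ℂ)⁻¹ * ∑ h' : H, χ ((h' : G) * ((h : G) * g)) = _
    congr 1
    refine Fintype.sum_equiv (Equiv.mulRight h) _ _ ?_
    intro h'
    show χ ((h' : G) * ((h : G) * g)) = χ (((h' * h : H) : G) * g)
    rw [Subgroup.coe_mul, mul_assoc]
  have hB' : ∑ g : G, (if ftT H g then Complex.normSq (χ g) else 0) =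
      ∑ g : G, (if ftT H g then Complex.normSq (ψ₀ g) else 0) +
      ∑ g : G, (if ftT H g then Complex.normSq (χ g - ψ₀ g) else 0) := by
    rw [hψ₀]; exact hB
  -- second term
  have hL2 : (Nat.card N : ℝ) ≤
      ∑ g : G, (if ftT H g then Complex.normSq (χ g - ψ₀ g) else 0) := by
    have h1 : ∑ g : G, (if ftT H g then Complex.normSq (χ g - ψ₀ g) else 0) =
        ∑ g : G, (if g ∈ N then Complex.normSq (χ g - ψ₀ g) else 0) := by
      apply Finset.sum_congr rfl
      intro g _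
      by_cases ht : ftT H g
      · rw [if_pos ht, if_pos (hTN g ht)]
      · rw [if_neg ht]
        by_cases hgN : g ∈ N
        · rw [if_pos hgN]
          have h2 := classfn_const_on_coset H χ hcf g (hN ▸ hgN) (fun h hh hcomm => by
            by_contra h1
            exact ht ⟨h, hh, h1, hcomm⟩)
          have h3 : ψ₀ g = χ g := by
            rw [hψ₀]
            show (Fintype.card H : ℂ)⁻¹ * ∑ h : H, χ ((h : G) * g) = χ g
            rw [Finset.sum_congr rfl (fun (h : H) _ => h2 (h : G) h.2), Finset.sum_const, Finset.card_univ,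
              nsmul_eq_mul]
            field_simp
          rw [h3, sub_self, map_zero]
        · rw [if_neg hgN]
    rw [h1, ← Finset.sum_filter]
    letI : Fintype N := Fintype.ofFinite _
    rw [Finset.sum_subtype (Finset.univ.filter (fun g : G => g ∈ N)) (p := fun g => g ∈ N)
      (fun x => by simp) (fun g => Complex.normSq (χ g - ψ₀ g))]
    haveI hnorm : (H.subgroupOf N).Normal := by
      rw [hN]; exact Subgroup.normal_in_normalizer
    letI : Fintype (H.subgroupOf N) := Fintype.ofFinite _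
    have hcardK : Fintype.card (H.subgroupOf N) = Fintype.card H :=
      Fintype.card_congr (Subgroup.subgroupOfEquivOfLe hHN).toEquiv
    have hconv : ∀ g : N, (Fintype.card (H.subgroupOf N) : ℂ)⁻¹ *
        ∑ k : H.subgroupOf N, χ (((k : N) * g : N) : G) = ψ₀ (g : G) := by
      intro g
      rw [hψ₀, hcardK]
      show _ = (Fintype.card H : ℂ)⁻¹ * ∑ h : H, χ ((h : G) * (g : G))
      congr 1
      exact Fintype.sum_equiv (Subgroup.subgroupOfEquivOfLe hHN).toEquiv _ _ (fun k => rfl)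
    have hD := normal_avg_norm_ge (A := N) (H.subgroupOf N) (φ := fun g : N => χ (g : G))
      (isCharacter_res N (isCharacter_of_isIrrCharacter hχ)) (by
        by_contra hall
        push Not at hall
        have a1 := hall 1
        have a2 := hall ⟨h0, hHN hh0⟩
        rw [hconv] at a1 a2
        apply hh0χ
        have a3 : ψ₀ h0 = ψ₀ 1 := by
          have := hψ₀H ⟨h0, hh0⟩ 1
          rwa [mul_one] at this
        calc χ h0 = ψ₀ h0 := a2
          _ = ψ₀ 1 := a3
          _ = χ 1 := a1.symm)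
    simp_rw [hconv] at hD
    rw [Nat.card_eq_fintype_card]
    exact hD
  -- first term
  obtain ⟨c0, hc0⟩ : ∃ c0 : ℂ, c0 = (Fintype.card H : ℂ)⁻¹ * ∑ h : H, χ (h : G) := ⟨_, rfl⟩
  have hcc : classInner (fun h : H => χ h) (fun _ => 1) = c0 := by
    rw [hc0]
    show (Nat.card H : ℂ)⁻¹ * ∑ h : H, χ (h : G) * conj (1 : ℂ) = _
    rw [Nat.card_eq_fintype_card]
    simp
  have hψ₀HZ : ∀ (h : H) (z : Subgroup.center G), Complex.normSq (ψ₀ ((h : G) * (z : G))) =
      Complex.normSq c0 := by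
    intro h z
    obtain ⟨c, hc1, hc''⟩ := irr_central_unit ⟨χ, hχ⟩ (z : G) z.2
    have hc : ∀ g : G, χ (g * (z : G)) = c * χ g := hc''
    have h1 : ψ₀ ((h : G) * (z : G)) = c * c0 := by
      rw [hψ₀, hc0]
      show (Fintype.card H : ℂ)⁻¹ * ∑ h' : H, χ ((h' : G) * ((h : G) * (z : G))) = _
      have h2 : ∀ h' : H, χ ((h' : G) * ((h : G) * (z : G))) = c * χ ((h' * h : H) : G) := by
        intro h'
        rw [← mul_assoc, hc, Subgroup.coe_mul]
      rw [Finset.sum_congr rfl (fun h' _ => h2 h'), ← Finset.mul_sum,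
        Fintype.sum_equiv (Equiv.mulRight h) (fun h' : H => χ ((h' * h : H) : G))
          (fun h' : H => χ (h' : G)) (fun h' => rfl)]
      ring
    rw [h1, Complex.normSq_mul, Complex.normSq_eq_norm_sq, hc1]
    ring
  have hL1 : (Fintype.card H : ℝ) * cZ * Complex.normSq c0 ≤
      ∑ g : G, (if ftT H g then Complex.normSq (ψ₀ g) else 0) := by
    rw [← Finset.sum_filter]
    have hinj : Function.Injective (fun p : H × Subgroup.center G => (p.1 : G) * (p.2 : G)) := by
      rintro ⟨h, z⟩ ⟨h', z'⟩ hp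
      have hp' : (h : G) * (z : G) = (h' : G) * (z' : G) := hp
      have e1 : (h' : G)⁻¹ * (h : G) = (z' : G) * (z : G)⁻¹ := by
        rw [inv_mul_eq_iff_eq_mul, ← mul_assoc, ← hp']; group
      have e2 : (h' : G)⁻¹ * (h : G) ∈ H ⊓ Subgroup.center G :=
        ⟨H.mul_mem (H.inv_mem h'.2) h.2, by
          rw [e1]; exact (Subgroup.center G).mul_mem z'.2 ((Subgroup.center G).inv_mem z.2)⟩
      rw [hZ, Subgroup.mem_bot] at e2
      have e3 : (h' : G) = h := inv_mul_eq_one.mp e2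
      have e4 : (z : G) = z' := by
        rw [e3] at hp'; exact mul_left_cancel hp'
      exact Prod.ext (Subtype.ext e3.symm) (Subtype.ext e4)
    have hsub : (Finset.univ : Finset (H × Subgroup.center G)).image
        (fun p => (p.1 : G) * (p.2 : G)) ⊆ Finset.univ.filter (fun g : G => ftT H g) := by
      intro g hg
      obtain ⟨⟨h, z⟩, -, rfl⟩ := Finset.mem_image.mp hg
      rw [Finset.mem_filter]
      refine ⟨Finset.mem_univ _, h0, hh0, hh01, ?_⟩
      show h0 * ((h : G) * (z : G)) = (h : G) * (z : G) * h0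
      rw [← mul_assoc, hab h0 hh0 h h.2, mul_assoc, Subgroup.mem_center_iff.mp z.2 h0, mul_assoc]
    refine le_trans ?_ (Finset.sum_le_sum_of_subset_of_nonneg hsub
      (fun g _ _ => Complex.normSq_nonneg _))
    rw [Finset.sum_image (fun p _ q _ hpq => hinj hpq)]
    rw [Finset.sum_congr rfl (fun p _ => hψ₀HZ p.1 p.2), Finset.sum_const, Finset.card_univ,
      Fintype.card_prod, nsmul_eq_mul, hcZ, Nat.card_eq_fintype_card]
    push_cast
    exact le_refl _
  -- arithmetic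
  obtain ⟨SD, hSD⟩ : ∃ SD : ℝ, SD = ∑ g : G,
      (if (ftT H g ∧ g ∉ Subgroup.center G) then Complex.normSq (χ g) else 0) := ⟨_, rfl⟩
  rw [← hSD] at hsplitT
  rw [hsplitZ] at hU
  have hU' : (Fintype.card G : ℝ) * SD ≤ (Nat.card N : ℝ) * ((Fintype.card G : ℝ) - cZ * n ^ 2) := by
    rw [hSD]; exact hU
  obtain ⟨cG, hcG⟩ : ∃ cG : ℝ, cG = (Fintype.card G : ℝ) := ⟨_, rfl⟩
  obtain ⟨cN, hcN⟩ : ∃ cN : ℝ, cN = (Nat.card N : ℝ) := ⟨_, rfl⟩
  obtain ⟨cH, hcH⟩ : ∃ cH : ℝ, cH = (Fintype.card H : ℝ) := ⟨_, rfl⟩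
  obtain ⟨nc, hnc⟩ : ∃ nc : ℝ, nc = Complex.normSq c0 := ⟨_, rfl⟩
  rw [← hcG, ← hcN] at hU'
  rw [← hcN] at hL2
  rw [← hcH, ← hnc] at hL1
  have hcGpos : 0 < cG := by rw [hcG]; exact_mod_cast Fintype.card_pos
  have hcNpos : 0 < cN := by rw [hcN]; exact_mod_cast Nat.card_pos
  have hcHpos : 0 < cH := by rw [hcH]; exact_mod_cast Fintype.card_pos
  have hST : cH * cZ * nc + cN ≤ SD + cZ * n ^ 2 := by
    rw [← hsplitT, hB']; linarith
  have k1 : cG * (cH * cZ * nc + cN - cZ * n ^ 2) ≤ cN * (cG - cZ * n ^ 2) := by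
    have : cG * (cH * cZ * nc + cN - cZ * n ^ 2) ≤ cG * SD :=
      mul_le_mul_of_nonneg_left (by linarith) hcGpos.le
    linarith
  have k2 : cZ * (cG * cH * nc) ≤ cZ * (n ^ 2 * (cG - cN)) := by
    nlinarith [k1]
  have k3 : cG * cH * nc ≤ n ^ 2 * (cG - cN) := le_of_mul_le_mul_left k2 hcZpos
  have hn2 : 0 < n ^ 2 := by positivity
  have k4 : cG * (cH * nc) < cG * n ^ 2 := by nlinarith
  have k5 : cH * nc < n ^ 2 := lt_of_mul_lt_mul_left k4 hcGpos.le
  rw [hnre, hcc, Nat.card_eq_fintype_card, ← hcH]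
  have k6 : c0.re ^ 2 ≤ nc := by
    rw [hnc, Complex.normSq_apply]; nlinarith [sq_nonneg c0.im]
  have k7 : cH * c0.re ^ 2 ≤ cH * nc := mul_le_mul_of_nonneg_left k6 hcHpos.le
  linarith


/-- The Feit–Thompson bound `(1 + χ(1))² > |H|`. -/
theorem ft_abelian_bound_two {G : Type u} [Group G] [Fintype G] (H : Subgroup G) [Fintype H]
    (hab : ∀ a ∈ H, ∀ b ∈ H, a * b = b * a) (hZ : H ⊓ Subgroup.center G = ⊥)
    (hone : ∀ g : G, g ∉ Subgroup.center G → ∀ a b : G,
      Subgroup.centralizer ({g} : Set G) ⊓ H.map (MulAut.conj a).toMonoidHom ≠ ⊥ →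
      Subgroup.centralizer ({g} : Set G) ⊓ H.map (MulAut.conj b).toMonoidHom ≠ ⊥ →
      H.map (MulAut.conj a).toMonoidHom = H.map (MulAut.conj b).toMonoidHom)
    (χ : G → ℂ) (hχ : IsIrrCharacter G χ) (hχ1 : χ 1 ≠ 1)
    (hnc : ∀ M : Subgroup G, M.Normal → H ≤ M → M = ⊤) :
    (1 + (χ 1).re) ^ 2 > (Nat.card H : ℝ) := by
  classical
  haveI : Finite (IrrCharacter G) := irr_finite
  letI : Fintype (IrrCharacter G) := Fintype.ofFinite _
  have hχc := isCharacter_of_isIrrCharacter hχ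
  have hn : χ 1 = (charDegree χ : ℂ) := isIrrCharacter_one_eq_charDegree hχ
  have hnpos : 0 < charDegree χ := charDegree_pos_of_irr hχ
  have hn2 : 2 ≤ charDegree χ := by
    by_contra hlt
    have h1 : charDegree χ = 1 := by omega
    apply hχ1; rw [hn, h1]; simp
  obtain ⟨n, hn'⟩ : ∃ n : ℝ, n = (charDegree χ : ℝ) := ⟨_, rfl⟩
  have hnre : (χ 1).re = n := by rw [hn, hn']; simp
  have hn2' : 2 ≤ n := by rw [hn']; exact_mod_cast hn2
  obtain ⟨Ψ, hΨ⟩ : ∃ Ψ : G → ℂ, Ψ = χ * (fun g => conj (χ g)) := ⟨_, rfl⟩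
  have hΨc : IsCharacter G Ψ := by rw [hΨ]; exact isCharacter_mul hχc (isCharacter_conj hχc)
  have hΨv : ∀ g, Ψ g = ((Complex.normSq (χ g) : ℝ) : ℂ) := by
    intro g; rw [hΨ, ← Complex.mul_conj]; rfl
  choose m hm using fun ξ : IrrCharacter G =>
    classInner_isCharacter_nat hΨc (isCharacter_of_isIrrCharacter ξ.2)
  have hexp : ∀ x, Ψ x = ∑ ξ : IrrCharacter G, (m ξ : ℂ) * (ξ : G → ℂ) x := by
    intro x
    have hexp := congrFun (expansion Ψ (isClassFunction_of_isCharacter hΨc)) x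
    rw [hexp]
    simp only [Finset.sum_apply, Pi.smul_apply, smul_eq_mul, hm]
  obtain ⟨ξ₀, hξ₀⟩ : ∃ ξ₀ : IrrCharacter G, (ξ₀ : G → ℂ) = fun _ => 1 :=
    ⟨⟨_, isIrrCharacter_one G⟩, rfl⟩
  have hm0 : m ξ₀ = 1 := by
    have h1 : classInner Ψ ξ₀ = classInner χ χ := by
      rw [hξ₀, hΨ]
      show (Nat.card G : ℂ)⁻¹ * ∑ g : G, (χ g * conj (χ g)) * conj (1 : ℂ) =
        (Nat.card G : ℂ)⁻¹ * ∑ g : G, χ g * conj (χ g)
      simp
    rw [hm, irr_orthonormal hχ hχ, if_pos rfl] at h1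
    exact_mod_cast h1
  have hdeg : ∀ ξ : IrrCharacter G, (ξ : G → ℂ) 1 = (charDegree (ξ : G → ℂ) : ℂ) :=
    fun ξ => isIrrCharacter_one_eq_charDegree ξ.2
  have hdpos : ∀ ξ : IrrCharacter G, 0 < charDegree (ξ : G → ℂ) :=
    fun ξ => charDegree_pos_of_irr ξ.2
  have hd0 : charDegree (ξ₀ : G → ℂ) = 1 := by
    apply charDegree_of_one_eq
    rw [hξ₀]; simp
  -- (a)
  have ha : n ^ 2 = ∑ ξ : IrrCharacter G, (m ξ : ℝ) * (charDegree (ξ : G → ℂ) : ℝ) := by
    have h1 := hexp 1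
    rw [hΨv, Finset.sum_congr rfl (fun ξ _ => by rw [hdeg ξ]), hn, Complex.normSq_natCast] at h1
    rw [hn']
    have h2 : (((charDegree χ : ℝ) ^ 2 : ℝ) : ℂ) =
        ((∑ ξ : IrrCharacter G, (m ξ : ℝ) * (charDegree (ξ : G → ℂ) : ℝ) : ℝ) : ℂ) := by
      push_cast
      rw [← h1]; push_cast; ring
    exact_mod_cast h2
  -- (b)
  obtain ⟨c, hc⟩ : ∃ c : IrrCharacter G → ℝ, c = fun ξ : IrrCharacter G =>
      (classInner (fun h : H => (ξ : G → ℂ) h) (fun _ => 1)).re := ⟨_, rfl⟩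
  obtain ⟨A, hA⟩ : ∃ A : ℝ, A = (Nat.card H : ℝ)⁻¹ * ∑ h : H, Complex.normSq (χ (h : G)) :=
    ⟨_, rfl⟩
  have hb0 : (Nat.card H : ℂ)⁻¹ * ∑ h : H, Ψ (h : G) = ∑ ξ : IrrCharacter G, (m ξ : ℂ) *
      classInner (fun h : H => (ξ : G → ℂ) h) (fun _ => 1) := by
    simp_rw [hexp]
    rw [Finset.sum_comm, Finset.mul_sum]
    apply Finset.sum_congr rfl
    intro ξ _
    show _ = (m ξ : ℂ) * ((Nat.card H : ℂ)⁻¹ * ∑ h : H, (ξ : G → ℂ) h * conj (1 : ℂ))
    rw [← Finset.mul_sum]; simp; ring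
  have hb : A = ∑ ξ : IrrCharacter G, (m ξ : ℝ) * c ξ := by
    have h1 := congrArg Complex.re hb0
    have h2 : (Nat.card H : ℂ)⁻¹ * ∑ h : H, Ψ (h : G) = ((A : ℝ) : ℂ) := by
      rw [hA]; push_cast
      congr 1
      apply Finset.sum_congr rfl
      intro h _
      rw [hΨv]
    rw [h2, Complex.ofReal_re, Complex.re_sum] at h1
    rw [h1, hc]
    apply Finset.sum_congr rfl
    intro ξ _
    rw [show (m ξ : ℂ) = ((m ξ : ℝ) : ℂ) by push_cast; rfl, Complex.re_ofReal_mul]
  -- (e)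
  have he : n ≤ A := by
    haveI : Finite (IrrCharacter H) := irr_finite
    letI : Fintype (IrrCharacter H) := Fintype.ofFinite _
    have hresc : IsCharacter H (fun h : H => χ h) := isCharacter_res H hχc
    choose a haa using fun μ : IrrCharacter H =>
      classInner_isCharacter_nat hresc (isCharacter_of_isIrrCharacter μ.2)
    have e1 := classInner_self_eq_sum_sq hresc a haa
    have e2 := charDegree_eq_sum hresc a haa
    have e3 : ∀ μ : IrrCharacter H, charDegree (μ : H → ℂ) = 1 := by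
      intro μ
      apply charDegree_of_one_eq
      have := (comm_iff_all_degree_one (G := H)).mp
        (fun x y => Subtype.ext (hab x x.2 y y.2)) μ
      rw [this]; simp
    have e4 : charDegree (fun h : H => χ h) = charDegree χ := rfl
    rw [e4, Finset.sum_congr rfl (fun μ _ => by rw [e3 μ, mul_one])] at e2
    have e5 : classInner (fun h : H => χ h) (fun h : H => χ h) = ((A : ℝ) : ℂ) := by
      rw [hA]
      show (Nat.card H : ℂ)⁻¹ * ∑ h : H, χ (h : G) * conj (χ (h : G)) = _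
      push_cast
      congr 1
      apply Finset.sum_congr rfl
      intro h _
      rw [Complex.mul_conj]
    rw [e5] at e1
    have e6 : A = ((∑ μ : IrrCharacter H, a μ ^ 2 : ℕ) : ℝ) := by exact_mod_cast e1
    rw [e6, hn', e2]
    have e7 : ∑ μ : IrrCharacter H, a μ ≤ ∑ μ : IrrCharacter H, a μ ^ 2 :=
      Finset.sum_le_sum (fun μ _ => Nat.le_self_pow two_ne_zero _)
    exact_mod_cast e7
  -- (d)
  obtain ⟨r, hr⟩ : ∃ r : ℝ, r = Real.sqrt (Nat.card H : ℝ) := ⟨_, rfl⟩
  have hr0 : 0 ≤ r := by rw [hr]; exact Real.sqrt_nonneg _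
  have hr2 : r ^ 2 = (Nat.card H : ℝ) := by rw [hr]; exact Real.sq_sqrt (Nat.cast_nonneg _)
  have hd : ∀ ξ : IrrCharacter G, ξ ≠ ξ₀ → r * c ξ < (charDegree (ξ : G → ℂ) : ℝ) := by
    intro ξ hξ
    have hk : ∃ h ∈ H, (ξ : G → ℂ) h ≠ (ξ : G → ℂ) 1 := by
      by_contra hall
      push Not at hall
      obtain ⟨K, hKn, hKmem, -⟩ := irr_ker_exists ξ
      have hHK : H ≤ K := fun h hh => (hKmem h).mpr (hall h hh)
      have hKtop := hnc K hKn hHK
      have hconst : ∀ g, (ξ : G → ℂ) g = (charDegree (ξ : G → ℂ) : ℂ) := fun g => by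
        rw [← hdeg ξ]; exact (hKmem g).mp (by rw [hKtop]; trivial)
      have h1 : classInner (ξ : G → ℂ) ξ = 1 := by rw [irr_orthonormal ξ.2 ξ.2, if_pos rfl]
      have h2 : classInner (ξ : G → ℂ) ξ =
        (Nat.card G : ℂ)⁻¹ * ∑ g : G, (ξ : G → ℂ) g * conj ((ξ : G → ℂ) g) := rfl
      rw [h1, Finset.sum_congr rfl (fun g _ => by rw [hconst g]), Finset.sum_const,
        Finset.card_univ, Nat.card_eq_fintype_card, nsmul_eq_mul, Complex.conj_natCast] at h2
      have hG0 : (Fintype.card G : ℂ) ≠ 0 := by exact_mod_cast Fintype.card_ne_zero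
      have h3 : (1 : ℂ) = (charDegree (ξ : G → ℂ) : ℂ) * (charDegree (ξ : G → ℂ) : ℂ) := by
        rw [h2]; field_simp
      have h4 : charDegree (ξ : G → ℂ) * charDegree (ξ : G → ℂ) = 1 := by exact_mod_cast h3.symm
      have h5 : charDegree (ξ : G → ℂ) = 1 := by
        exact Nat.eq_one_of_mul_eq_one_right h4
      apply hξ
      apply Subtype.ext
      rw [hξ₀]
      funext g
      rw [hconst g, h5]; simp
    have hbound := ft_abelian_bound H hab hZ hone (ξ : G → ℂ) ξ.2 hk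
    have h6 : ((ξ : G → ℂ) 1).re = (charDegree (ξ : G → ℂ) : ℝ) := by rw [hdeg ξ]; simp
    rw [h6] at hbound
    have h7 : c ξ = (classInner (fun h : H => (ξ : G → ℂ) h) (fun _ => 1)).re := by rw [hc]
    rw [← h7, ← hr2] at hbound
    by_contra hle
    push Not at hle
    have h8 : (0 : ℝ) ≤ (charDegree (ξ : G → ℂ) : ℝ) := Nat.cast_nonneg _
    have h9 := mul_self_le_mul_self h8 hle
    nlinarith
  -- (f)
  have hc0 : c ξ₀ = 1 := by
    rw [hc]
    show (classInner (fun h : H => (ξ₀ : G → ℂ) h) (fun _ => 1)).re = 1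
    rw [hξ₀]
    show ((Nat.card H : ℂ)⁻¹ * ∑ h : H, (1 : ℂ) * conj (1 : ℂ)).re = 1
    rw [Nat.card_eq_fintype_card]
    have hH0 : (Fintype.card H : ℂ) ≠ 0 := by exact_mod_cast Fintype.card_ne_zero
    simp [Finset.sum_const, Finset.card_univ, hH0]
  rw [← Finset.add_sum_erase Finset.univ _ (Finset.mem_univ ξ₀)] at ha hb
  rw [hm0, hd0] at ha
  rw [hm0, hc0] at hb
  have hS : ∑ ξ ∈ Finset.univ.erase ξ₀, (m ξ : ℝ) * (r * c ξ) <
      ∑ ξ ∈ Finset.univ.erase ξ₀, (m ξ : ℝ) * (charDegree (ξ : G → ℂ) : ℝ) := by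
    apply Finset.sum_lt_sum
    · intro ξ hξ
      exact mul_le_mul_of_nonneg_left (hd ξ (Finset.ne_of_mem_erase hξ)).le (Nat.cast_nonneg _)
    · by_contra hall
      push Not at hall
      have hz : ∀ ξ ∈ Finset.univ.erase ξ₀, (m ξ : ℝ) * (charDegree (ξ : G → ℂ) : ℝ) = 0 := by
        intro ξ hξ
        have h1 := hall ξ hξ
        have h2 := hd ξ (Finset.ne_of_mem_erase hξ)
        have h3 : (0 : ℝ) ≤ (m ξ : ℝ) := Nat.cast_nonneg _
        have h4 : (m ξ : ℝ) = 0 := by
          by_contra hne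
          have h5 : (0 : ℝ) < (m ξ : ℝ) := lt_of_le_of_ne h3 (Ne.symm hne)
          have := mul_lt_mul_of_pos_left h2 h5
          linarith
        rw [h4, zero_mul]
      rw [Finset.sum_eq_zero hz] at ha
      have ha' : n ^ 2 = 1 := by rw [ha]; push_cast; ring
      nlinarith
  have hS2 : ∑ ξ ∈ Finset.univ.erase ξ₀, (m ξ : ℝ) * (r * c ξ) =
      r * ∑ ξ ∈ Finset.univ.erase ξ₀, (m ξ : ℝ) * c ξ := by
    rw [Finset.mul_sum]
    apply Finset.sum_congr rfl
    intro ξ _; ring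
  rw [hS2] at hS
  rw [hnre]
  have k1 : r * (A - 1) < n ^ 2 - 1 := by
    have e1 : ∑ ξ ∈ Finset.univ.erase ξ₀, (m ξ : ℝ) * c ξ = A - 1 := by rw [hb]; push_cast; ring
    have e2 : ∑ ξ ∈ Finset.univ.erase ξ₀, (m ξ : ℝ) * (charDegree (ξ : G → ℂ) : ℝ) = n ^ 2 - 1 := by
      rw [ha]; push_cast; ring
    rw [e1, e2] at hS; exact hS
  have k2 : r * (n - 1) ≤ r * (A - 1) := mul_le_mul_of_nonneg_left (by linarith) hr0
  have k3 : r < n + 1 := by
    by_contra hle
    push Not at hle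
    nlinarith
  rw [← hr2]
  nlinarith

end Cfsg.Agent.Lib.Lead
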