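import Mathlib
import Cfsg.Agent.Lib.Lead.CharKerSub
import Cfsg.Agent.Lib.Lead.CharClifford2
import Cfsg.Agent.Lib.Lead.CharMore
import Cfsg.Agent.Lib.Lead.CharKer

set_option autoImplicit false

namespace Cfsg.Agent.Lib.Lead

open Cfsg.Agent.Lib.Helper2
open scoped ComplexConjugate
open Module

/-- A group with an irreducible character `χ` of degree `d ≠ 1` with `|G| = p d` has a
self-centralizing normal subgroup of order `p`, and `p ∤ d`. -/
theorem exists_self_centralizing_of_prime_codegree {G : Type*} [Group G] [Finite G]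
    (χ : Cfsg.IrrCharacter G) (p : ℕ)
    (hp : p.Prime) (hcod : Nat.card G = p * Cfsg.charDegree (χ : G → ℂ))
    (hd1 : Cfsg.charDegree (χ : G → ℂ) ≠ 1) :
    ∃ P : Subgroup G, P.Normal ∧ Nat.card P = p ∧ ¬ p ∣ Cfsg.charDegree (χ : G → ℂ) ∧
      ∀ g : G, (∀ x ∈ P, g * x = x * g) → g ∈ P := by
  classical
  letI := Fintype.ofFinite G
  haveI : Fact p.Prime := ⟨hp⟩
  set d := Cfsg.charDegree (χ : G → ℂ) with hd
  have hdpos : 0 < d := charDegree_pos_of_irr χ.2
  obtain ⟨n, ρ, hirr, hρ⟩ := id χ.2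
  haveI := hirr
  have hfin : finrank ℂ (Fin n → ℂ) = d := by rw [hd, ← hρ, charDegree_character]
  have hsq : d ^ 2 ≤ p * d := by
    have := degree_sq_mul_card_le_of_scalar ρ ⊥
      (fun a ha => ⟨1, by rw [Subgroup.mem_bot.mp ha, map_one, one_smul]; rfl⟩)
    rw [Subgroup.card_bot, mul_one, hfin, hcod] at this; exact this
  have hdp : d ≤ p := by nlinarith
  have hdlt : d < p := by
    rcases lt_or_eq_of_le hdp with h | h
    · exact h
    · exfalso
      have hG2 : Nat.card G = p ^ 2 := by rw [hcod, h, pow_two]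
      have hcomm : ∀ a b : G, a * b = b * a :=
        (IsPGroup.isMulCommutative_of_card_eq_prime_sq hG2).is_comm.comm
      have h1 := (comm_iff_all_degree_one.mp hcomm) χ
      exact hd1 (charDegree_of_one_eq (by rw [h1]; simp))
  have hpd : ¬ p ∣ d := Nat.not_dvd_of_pos_of_lt hdpos hdlt
  obtain ⟨P⟩ : Nonempty (Sylow p G) := inferInstance
  have hidx := P.not_dvd_index
  have hPc : Nat.card P * (P : Subgroup G).index = p * d := by
    rw [Subgroup.card_mul_index, hcod]
  have hpP : p ∣ Nat.card P := by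
    have : p ∣ Nat.card P * (P : Subgroup G).index := by rw [hPc]; exact dvd_mul_right _ _
    exact (hp.dvd_mul.mp this).resolve_right hidx
  obtain ⟨m, hm⟩ := hpP
  have hmd : m * (P : Subgroup G).index = d := by
    rw [hm, mul_assoc] at hPc
    exact Nat.eq_of_mul_eq_mul_left hp.pos hPc
  have hm1 : m = 1 := by
    obtain ⟨k, hk⟩ := (P.2).exists_card_eq
    have hpm : ¬ p ∣ m := fun h => hpd (dvd_trans h (Dvd.intro _ hmd))
    rw [hm] at hk
    rcases k with _ | k
    · rw [pow_zero] at hk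
      have := Nat.eq_one_of_mul_eq_one_right hk
      exact absurd this hp.one_lt.ne'
    · rw [pow_succ'] at hk
      have hmk : m = p ^ k := Nat.eq_of_mul_eq_mul_left hp.pos hk
      rcases k with _ | k
      · simpa using hmk
      · exact absurd (hmk ▸ dvd_pow_self p (Nat.succ_ne_zero k)) hpm
  have hPp : Nat.card (P : Subgroup G) = p := by rw [hm, hm1, mul_one]
  have hindex : (P : Subgroup G).index = d := by rw [hm1, one_mul] at hmd; exact hmd
  have hnp1 : Nat.card (Sylow p G) ∣ d := hindex ▸ Sylow.card_dvd_index P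
  have hnp2 := card_sylow_modEq_one p G
  have hnp : Nat.card (Sylow p G) = 1 := by
    have hlt : Nat.card (Sylow p G) < p := lt_of_le_of_lt (Nat.le_of_dvd hdpos hnp1) hdlt
    have h2 : Nat.card (Sylow p G) % p = 1 := by
      have := hnp2; unfold Nat.ModEq at this; rw [this, Nat.mod_eq_of_lt hp.one_lt]
    rw [Nat.mod_eq_of_lt hlt] at h2; exact h2
  haveI : Subsingleton (Sylow p G) := (Nat.card_eq_one_iff_unique.mp hnp).1
  haveI hPn : (P : Subgroup G).Normal := Sylow.normal_of_subsingleton P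
  obtain ⟨Q, hQn, hQp, hQidx⟩ : ∃ Q : Subgroup G, Q.Normal ∧ Nat.card Q = p ∧ Q.index = d :=
    ⟨P, hPn, hPp, hindex⟩
  haveI := hQn
  letI : Fintype Q := Fintype.ofFinite _
  -- a constituent of the restriction
  have hres : Cfsg.IsCharacter Q (fun x : Q => (χ : G → ℂ) x) :=
    isCharacter_res Q (isCharacter_of_isIrrCharacter χ.2)
  have hχ1 : (χ : G → ℂ) 1 = (d : ℂ) := isIrrCharacter_one_eq_charDegree χ.2
  have h1 : (fun x : Q => (χ : G → ℂ) x) 1 ≠ 0 := by
    show (χ : G → ℂ) ((1 : Q) : G) ≠ 0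
    rw [Subgroup.coe_one, hχ1]
    exact_mod_cast hdpos.ne'
  obtain ⟨lam, hlam⟩ := exists_irr_constituent hres h1
  haveI : IsCyclic Q := isCyclic_of_prime_card hQp
  have hPcomm : ∀ a b : Q, a * b = b * a := by
    letI := IsCyclic.commGroup (α := Q)
    exact fun a b => mul_comm a b
  have hlam1 : (lam : Q → ℂ) 1 = 1 := (comm_iff_all_degree_one.mp hPcomm) lam
  have hlamc := isCharacter_of_isIrrCharacter lam.2
  have hind : Cfsg.IsCharacter G (Cfsg.indFun Q (lam : Q → ℂ)) :=
    isCharacter_indFun Q hlamc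
  have hdeg : Cfsg.charDegree (Cfsg.indFun Q (lam : Q → ℂ)) = d := by
    rw [charDegree_indFun Q hlamc, hQidx,
      charDegree_of_one_eq (n := 1) (by rw [hlam1]; simp), mul_one]
  have hinner : Cfsg.classInner (Cfsg.indFun Q (lam : Q → ℂ))
      (χ : G → ℂ) ≠ 0 := by
    rw [frobenius_reciprocity Q _ _ (isClassFunction_irr χ), classInner_conj_symm]
    intro h
    apply hlam
    have := congrArg conj h
    rwa [Complex.conj_conj, map_zero] at this
  have heq : Cfsg.indFun Q (lam : Q → ℂ) = (χ : G → ℂ) :=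
    eq_of_inner_ne_zero_of_charDegree_le hind χ hinner (by rw [hdeg])
  have hnorm := card_mul_norm_ind_eq Q (lam : Q → ℂ) lam.2
  rw [heq, irr_orthonormal χ.2 χ.2, if_pos rfl, mul_one] at hnorm
  have hnorm' : Nat.card {g : G // ∀ h : Q,
      (lam : Q → ℂ) ⟨g * h * g⁻¹, hQn.conj_mem h h.2 g⟩ =
        (lam : Q → ℂ) h} = p := by
    rw [← hQp]
    exact_mod_cast hnorm.symm
  refine ⟨Q, hQn, hQp, hpd, ?_⟩
  intro g hg
  by_contra hgP
  set S : Set G := {g : G | ∀ h : Q,
      (lam : Q → ℂ) ⟨g * h * g⁻¹, hQn.conj_mem h h.2 g⟩ =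
        (lam : Q → ℂ) h} with hS
  have hcent : ∀ y : G, (∀ x ∈ Q, y * x = x * y) → y ∈ S := by
    intro y hy h
    have e : (⟨y * (h : G) * y⁻¹, hQn.conj_mem h h.2 y⟩ : Q) = h := by
      apply Subtype.ext
      show y * (h : G) * y⁻¹ = h
      rw [hy h h.2, mul_inv_cancel_right]
    show (lam : Q → ℂ) ⟨y * (h : G) * y⁻¹, hQn.conj_mem h h.2 y⟩ = (lam : Q → ℂ) h
    rw [e]
  have hPS : (Q : Set G) ⊆ S := by
    intro y hy
    apply hcent
    intro x hx
    have := hPcomm ⟨y, hy⟩ ⟨x, hx⟩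
    exact congrArg Subtype.val this
  have hgS : g ∈ S := hcent g hg
  have hsub : insert g (Q : Set G) ⊆ S := Set.insert_subset hgS hPS
  have hle := Set.ncard_le_ncard hsub (Set.toFinite S)
  rw [Set.ncard_insert_of_notMem (by simpa using hgP) (Set.toFinite _)] at hle
  have e1 : S.ncard = p := by
    rw [← hnorm']
    exact (Nat.card_coe_set_eq S).symm
  have e2 : (Q : Set G).ncard = p := by
    rw [← hQp]
    exact (Nat.card_coe_set_eq _).symm
  omega

end Cfsg.Agent.Lib.Lead
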