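import Mathlib
import Cfsg.Agent.Lib.Lead.CharApps2
import Cfsg.Agent.Lib.Lead.CharFT
import Cfsg.Agent.Lib.Lead.CharQuot
import Cfsg.Agent.Lib.Lead.CharMore
import Cfsg.Agent.Lib.Lead.CharMGroup

set_option autoImplicit false
set_option maxHeartbeats 1600000

namespace Cfsg.Agent.Lib.Lead

open Cfsg Cfsg.Agent.Lib.Helper2
open scoped ComplexConjugate

universe u

open scoped Classical in
/-- Counting the conjugacy classes with a property by summing inverse class sizes. -/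
theorem card_conjClasses_pred {A : Type u} [Group A] [Fintype A] (P : ConjClasses A → Prop) :
    (Nat.card {C : ConjClasses A // P C} : ℂ) =
      ∑ a : A, (if P (ConjClasses.mk a) then ((classFinset a).card : ℂ)⁻¹ else 0) := by
  classical
  letI : Fintype (ConjClasses A) := Fintype.ofFinite _
  rw [← Finset.sum_fiberwise (Finset.univ : Finset A) (fun a => ConjClasses.mk a) _]
  have h : ∀ C : ConjClasses A, ∑ a ∈ Finset.univ.filter (fun a : A => ConjClasses.mk a = C),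
      (if P (ConjClasses.mk a) then ((classFinset a).card : ℂ)⁻¹ else 0) =
      if P C then 1 else 0 := by
    intro C
    obtain ⟨a₀, rfl⟩ := ConjClasses.mk_surjective C
    have hf : Finset.univ.filter (fun a : A => ConjClasses.mk a = ConjClasses.mk a₀) =
        classFinset a₀ := by
      ext a
      rw [Finset.mem_filter, mem_classFinset, ConjClasses.mk_eq_mk_iff_isConj, isConj_comm]
      simp
    rw [hf]
    have hc : ∀ a ∈ classFinset a₀,
        (if P (ConjClasses.mk a) then ((classFinset a).card : ℂ)⁻¹ else 0) =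
        if P (ConjClasses.mk a₀) then ((classFinset a₀).card : ℂ)⁻¹ else 0 := by
      intro a ha
      have hconj := mem_classFinset.mp ha
      have e1 : ConjClasses.mk a = ConjClasses.mk a₀ :=
        ConjClasses.mk_eq_mk_iff_isConj.mpr hconj.symm
      have e2 : classFinset a = classFinset a₀ := by
        ext x
        rw [mem_classFinset, mem_classFinset]
        exact ⟨fun h => hconj.trans h, fun h => hconj.symm.trans h⟩
      rw [e1, e2]
    rw [Finset.sum_congr rfl hc, Finset.sum_const, nsmul_eq_mul]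
    split_ifs
    · have h0 : ((classFinset a₀).card : ℂ) ≠ 0 := by
        have hmem : a₀ ∈ classFinset a₀ := mem_classFinset.mpr (IsConj.refl a₀)
        exact_mod_cast (Finset.card_pos.mpr ⟨a₀, hmem⟩).ne'
      field_simp
    · simp
  rw [Finset.sum_congr rfl (fun C _ => h C), Finset.sum_boole]
  rw [Nat.card_eq_fintype_card, Fintype.card_subtype]


/-- The number of irreducible characters over a faithful character of a central subgroup is
the number of special classes of the quotient. -/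
theorem card_irr_over_central_faithful {G : Type u} [Group G] [Fintype G] (N : Subgroup G)
    [hNn : N.Normal] [Fintype N] (hN : N ≤ Subgroup.center G) (ψ : IrrCharacter ↥N)
    (hfaith : ∀ n : ↥N, (ψ : ↥N → ℂ) n = (ψ : ↥N → ℂ) 1 → n = 1) :
    Nat.card {χ : IrrCharacter G //
        classInner (fun n : ↥N => (χ : G → ℂ) n) (ψ : ↥N → ℂ) ≠ 0} =
      Nat.card {C : ConjClasses (G ⧸ N) // ∃ g : G, ConjClasses.mk (g : G ⧸ N) = C ∧
        ∀ x : G, x⁻¹ * g⁻¹ * x * g ∈ N → x * g = g * x} := by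
  classical
  haveI : Finite (IrrCharacter G) := irr_finite
  letI : Fintype (IrrCharacter G) := Fintype.ofFinite _
  letI : Fintype (G ⧸ N) := Fintype.ofFinite _
  have hcen : ∀ (n : N) (g : G), g * (n : G) = (n : G) * g := fun n g =>
    Subgroup.mem_center_iff.mp (hN n.2) g
  have hNcomm : ∀ a b : N, a * b = b * a := fun a b => Subtype.ext (hcen b a)
  have hψ1 : (ψ : N → ℂ) 1 = 1 := (comm_iff_all_degree_one (G := N)).mp hNcomm ψ
  obtain ⟨lam, hlam⟩ := exists_hom_of_linear ψ.2 hψ1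
  have hG0 : (Nat.card G : ℂ) ≠ 0 := by exact_mod_cast Nat.card_pos.ne'
  have hN0 : (Nat.card N : ℂ) ≠ 0 := by exact_mod_cast Nat.card_pos.ne'
  -- Step 1
  have hT : ∀ χ : IrrCharacter G,
      classInner (fun n : N => (χ : G → ℂ) n) (ψ : N → ℂ) = 0 ∨
      classInner (fun n : N => (χ : G → ℂ) n) (ψ : N → ℂ) = (χ : G → ℂ) 1 := by
    intro χ
    have hμ : ∀ n : N, ∃ c : ℂ, ∀ g : G, (χ : G → ℂ) (g * n) = c * (χ : G → ℂ) g :=
      fun n => irr_central_scalar χ n (hN n.2)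
    choose μ hμ' using hμ
    obtain ⟨S, hS⟩ : ∃ S : ℂ, S = ∑ n : N, (χ : G → ℂ) n * conj ((ψ : N → ℂ) n) := ⟨_, rfl⟩
    have hinv : ∀ n₀ : N, S = (μ n₀ * conj ((ψ : N → ℂ) n₀)) * S := by
      intro n₀
      rw [hS, Finset.mul_sum]
      rw [← Fintype.sum_equiv (Equiv.mulRight n₀)
        (fun n => (χ : G → ℂ) ((n * n₀ : N) : G) * conj ((ψ : N → ℂ) (n * n₀)))
        (fun n => (χ : G → ℂ) (n : G) * conj ((ψ : N → ℂ) n)) (fun n => rfl)]
      apply Finset.sum_congr rfl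
      intro n _
      rw [Subgroup.coe_mul, hμ' n₀ (n : G), hlam, hlam n, hlam n₀, map_mul]
      push_cast
      simp only [map_mul]
      ring
    show (Nat.card N : ℂ)⁻¹ * ∑ n : N, (χ : G → ℂ) n * conj ((ψ : N → ℂ) n) = 0 ∨
      (Nat.card N : ℂ)⁻¹ * ∑ n : N, (χ : G → ℂ) n * conj ((ψ : N → ℂ) n) = (χ : G → ℂ) 1
    rw [← hS]
    by_cases hS0 : S = 0
    · left; rw [hS0, mul_zero]
    · right
      have h1 : ∀ n₀ : N, μ n₀ * conj ((ψ : N → ℂ) n₀) = 1 := by
        intro n₀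
        have h := hinv n₀
        have h2 : (μ n₀ * conj ((ψ : N → ℂ) n₀) - 1) * S = 0 := by linear_combination -h
        rcases mul_eq_zero.mp h2 with h3 | h3
        · exact sub_eq_zero.mp h3
        · exact absurd h3 hS0
      have h4 : ∀ n : N, (χ : G → ℂ) n * conj ((ψ : N → ℂ) n) = (χ : G → ℂ) 1 := by
        intro n
        have h := hμ' n 1
        rw [one_mul] at h
        rw [h, mul_comm (μ n), mul_assoc, h1 n, mul_one]
      rw [hS, Finset.sum_congr rfl (fun n _ => h4 n), Finset.sum_const, Finset.card_univ,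
        nsmul_eq_mul, Nat.card_eq_fintype_card]
      have hN0' : (Fintype.card N : ℂ) ≠ 0 := by exact_mod_cast Fintype.card_ne_zero
      field_simp
  have hcount : (Nat.card {χ : IrrCharacter G //
      classInner (fun n : N => (χ : G → ℂ) n) (ψ : N → ℂ) ≠ 0} : ℂ) =
      ∑ χ : IrrCharacter G,
        classInner (fun n : N => (χ : G → ℂ) n) (ψ : N → ℂ) / (χ : G → ℂ) 1 := by
    rw [Nat.card_eq_fintype_card, Fintype.card_subtype, ← Finset.sum_boole]
    apply Finset.sum_congr rfl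
    intro χ _
    have hne := isIrrCharacter_one_ne_zero χ.2
    rcases hT χ with h | h
    · rw [h]; simp
    · rw [h, if_pos hne]; field_simp
  -- Step 2
  have hstep2 : ∑ χ : IrrCharacter G,
      classInner (fun n : N => (χ : G → ℂ) n) (ψ : N → ℂ) / (χ : G → ℂ) 1 =
      (Nat.card N : ℂ)⁻¹ * (Nat.card G : ℂ)⁻¹ * ∑ n : N, conj ((ψ : N → ℂ) n) *
        (Nat.card {p : G × G // p.1 * p.2 * p.1⁻¹ * p.2⁻¹ = (n : G)} : ℂ) := by
    simp_rw [card_commutator_eq]
    have h1 : ∀ χ : IrrCharacter G,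
        classInner (fun n : N => (χ : G → ℂ) n) (ψ : N → ℂ) / (χ : G → ℂ) 1 =
        (Nat.card N : ℂ)⁻¹ * ∑ n : N, conj ((ψ : N → ℂ) n) *
          ((χ : G → ℂ) n / (χ : G → ℂ) 1) := by
      intro χ
      show (Nat.card N : ℂ)⁻¹ * (∑ n : N, (χ : G → ℂ) n * conj ((ψ : N → ℂ) n)) /
        (χ : G → ℂ) 1 = _
      rw [mul_div_assoc, Finset.sum_div]
      congr 1
      apply Finset.sum_congr rfl; intro n _; ring
    simp_rw [h1]
    rw [← Finset.mul_sum, Finset.sum_comm, mul_assoc]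
    congr 1
    rw [Finset.mul_sum]
    apply Finset.sum_congr rfl
    intro n _
    rw [← Finset.mul_sum]
    field_simp
  -- Step 2b
  have hstep2b : ∑ n : N, conj ((ψ : N → ℂ) n) *
      (Nat.card {p : G × G // p.1 * p.2 * p.1⁻¹ * p.2⁻¹ = (n : G)} : ℂ) =
      ∑ y : G, ∑ x : G, (if h : x * y * x⁻¹ * y⁻¹ ∈ N then
        conj ((ψ : N → ℂ) ⟨x * y * x⁻¹ * y⁻¹, h⟩) else 0) := by
    have h1 : ∀ n : N, (Nat.card {p : G × G // p.1 * p.2 * p.1⁻¹ * p.2⁻¹ = (n : G)} : ℂ) =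
        ∑ p : G × G, (if p.1 * p.2 * p.1⁻¹ * p.2⁻¹ = (n : G) then (1 : ℂ) else 0) := by
      intro n
      rw [Nat.card_eq_fintype_card, Fintype.card_subtype, Finset.sum_boole]
    simp_rw [h1, Finset.mul_sum]
    rw [Finset.sum_comm, Fintype.sum_prod_type, Finset.sum_comm]
    apply Finset.sum_congr rfl
    intro y _
    apply Finset.sum_congr rfl
    intro x _
    by_cases h : x * y * x⁻¹ * y⁻¹ ∈ N
    · rw [dif_pos h, Finset.sum_eq_single (⟨x * y * x⁻¹ * y⁻¹, h⟩ : N)]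
      · simp
      · intro n _ hne
        rw [if_neg (fun h' => hne (Subtype.ext h'.symm)), mul_zero]
      · intro h'; exact absurd (Finset.mem_univ _) h'
    · rw [dif_neg h]
      apply Finset.sum_eq_zero
      intro n _
      rw [if_neg (fun h' : x * y * x⁻¹ * y⁻¹ = (n : G) => h (by rw [h']; exact n.2)), mul_zero]
  -- Step 2c
  have hrel : ∀ x y : G, x⁻¹ * y⁻¹ * x * y ∈ N ↔ x * y * x⁻¹ * y⁻¹ ∈ N := by
    intro x y
    have e : x * y * x⁻¹ * y⁻¹ = (y * x) * (x⁻¹ * y⁻¹ * x * y) * (y * x)⁻¹ := by group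
    constructor
    · intro h; rw [e]; exact hNn.conj_mem _ h _
    · intro h
      have e' : x⁻¹ * y⁻¹ * x * y = (y * x)⁻¹ * (x * y * x⁻¹ * y⁻¹) * (y * x)⁻¹⁻¹ := by group
      rw [e']; exact hNn.conj_mem _ h _
  have hstep2c : ∀ y : G, ∑ x : G, (if h : x * y * x⁻¹ * y⁻¹ ∈ N then
        conj ((ψ : N → ℂ) ⟨x * y * x⁻¹ * y⁻¹, h⟩) else 0) =
      if (∀ x : G, x⁻¹ * y⁻¹ * x * y ∈ N → x * y = y * x) then
        ((Finset.univ.filter (fun x : G => x * y * x⁻¹ * y⁻¹ ∈ N)).card : ℂ) else 0 := by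
    intro y
    by_cases hsp : ∀ x : G, x⁻¹ * y⁻¹ * x * y ∈ N → x * y = y * x
    · rw [if_pos hsp, ← Finset.sum_boole]
      apply Finset.sum_congr rfl
      intro x _
      by_cases h : x * y * x⁻¹ * y⁻¹ ∈ N
      · rw [dif_pos h, if_pos h]
        have hxy := hsp x ((hrel x y).mpr h)
        have h1 : (⟨x * y * x⁻¹ * y⁻¹, h⟩ : N) = 1 := by
          apply Subtype.ext
          show x * y * x⁻¹ * y⁻¹ = 1
          rw [hxy]; group
        rw [h1, hψ1, map_one]
      · rw [dif_neg h, if_neg h]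
    · rw [if_neg hsp]
      push Not at hsp
      obtain ⟨x₀, hx₀N, hx₀⟩ := hsp
      have hx₀N' := (hrel x₀ y).mp hx₀N
      obtain ⟨S, hS⟩ : ∃ S : ℂ, S = ∑ x : G, (if h : x * y * x⁻¹ * y⁻¹ ∈ N then
        conj ((ψ : N → ℂ) ⟨x * y * x⁻¹ * y⁻¹, h⟩) else 0) := ⟨_, rfl⟩
      rw [← hS]
      have hmul : ∀ x : G, (x * x₀) * y * (x * x₀)⁻¹ * y⁻¹ =
          (x₀ * y * x₀⁻¹ * y⁻¹) * (x * y * x⁻¹ * y⁻¹) := by
        intro x
        have h1 : (x * x₀) * y * (x * x₀)⁻¹ * y⁻¹ =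
            x * (x₀ * y * x₀⁻¹ * y⁻¹) * (y * x⁻¹ * y⁻¹) := by group
        rw [h1, hcen ⟨_, hx₀N'⟩ x]
        group
      have hinv : S = conj ((ψ : N → ℂ) ⟨x₀ * y * x₀⁻¹ * y⁻¹, hx₀N'⟩) * S := by
        rw [hS, Finset.mul_sum]
        rw [← Fintype.sum_equiv (Equiv.mulRight x₀)
          (fun x => (if h : (x * x₀) * y * (x * x₀)⁻¹ * y⁻¹ ∈ N then
            conj ((ψ : N → ℂ) ⟨(x * x₀) * y * (x * x₀)⁻¹ * y⁻¹, h⟩) else 0))
          (fun x => (if h : x * y * x⁻¹ * y⁻¹ ∈ N then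
            conj ((ψ : N → ℂ) ⟨x * y * x⁻¹ * y⁻¹, h⟩) else 0)) (fun x => rfl)]
        apply Finset.sum_congr rfl
        intro x _
        by_cases h : x * y * x⁻¹ * y⁻¹ ∈ N
        · have h' : (x * x₀) * y * (x * x₀)⁻¹ * y⁻¹ ∈ N := by
            rw [hmul x]; exact N.mul_mem hx₀N' h
          rw [dif_pos h, dif_pos h']
          have e : (⟨(x * x₀) * y * (x * x₀)⁻¹ * y⁻¹, h'⟩ : N) =
              ⟨x₀ * y * x₀⁻¹ * y⁻¹, hx₀N'⟩ * ⟨x * y * x⁻¹ * y⁻¹, h⟩ :=
            Subtype.ext (hmul x)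
          rw [e, hlam, hlam ⟨x₀ * y * x₀⁻¹ * y⁻¹, hx₀N'⟩, hlam ⟨x * y * x⁻¹ * y⁻¹, h⟩, map_mul]
          push_cast
          simp only [map_mul]
        · have h' : ¬ (x * x₀) * y * (x * x₀)⁻¹ * y⁻¹ ∈ N := by
            intro h''
            apply h
            rw [hmul x] at h''
            have := N.mul_mem (N.inv_mem hx₀N') h''
            rwa [inv_mul_cancel_left] at this
          rw [dif_neg h, dif_neg h', mul_zero]
      have hne : conj ((ψ : N → ℂ) ⟨x₀ * y * x₀⁻¹ * y⁻¹, hx₀N'⟩) ≠ 1 := by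
        intro h1
        have h2 : (ψ : N → ℂ) ⟨x₀ * y * x₀⁻¹ * y⁻¹, hx₀N'⟩ = (ψ : N → ℂ) 1 := by
          rw [hψ1]
          have := congrArg conj h1
          rwa [Complex.conj_conj, map_one] at this
        have h3 := hfaith _ h2
        have h4 : x₀ * y * x₀⁻¹ * y⁻¹ = 1 := congrArg Subtype.val h3
        apply hx₀
        have h5 : x₀ * y = (x₀ * y * x₀⁻¹ * y⁻¹) * (y * x₀) := by group
        rw [h5, h4, one_mul]
      have h6 : (conj ((ψ : N → ℂ) ⟨x₀ * y * x₀⁻¹ * y⁻¹, hx₀N'⟩) - 1) * S = 0 := by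
        linear_combination -hinv
      rcases mul_eq_zero.mp h6 with h7 | h7
      · exact absurd (sub_eq_zero.mp h7) hne
      · exact h7
  -- Step 3
  have hb : ∀ y : G, ((Finset.univ.filter (fun x : G => x * y * x⁻¹ * y⁻¹ ∈ N)).card : ℂ) =
      (Nat.card G : ℂ) * ((classFinset (y : G ⧸ N)).card : ℂ)⁻¹ := by
    intro y
    have h1 : (Finset.univ.filter (fun x : G => x * y * x⁻¹ * y⁻¹ ∈ N)).card =
        Nat.card ((Subgroup.centralizer ({(y : G ⧸ N)} : Set (G ⧸ N))).comap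
          (QuotientGroup.mk' N)) := by
      rw [← Nat.card_eq_finsetCard]
      apply Nat.card_congr
      refine Equiv.subtypeEquivRight (fun x => ?_)
      rw [Finset.mem_filter, Subgroup.mem_comap, Subgroup.mem_centralizer_iff]
      simp only [Finset.mem_univ, true_and, Set.mem_singleton_iff, forall_eq,
        QuotientGroup.mk'_apply]
      rw [← QuotientGroup.mk_mul, ← QuotientGroup.mk_mul, QuotientGroup.eq]
      have e : (y * x)⁻¹ * (x * y) = x⁻¹ * y⁻¹ * x * y := by group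
      rw [e, hrel]
    have h2 : (Subgroup.centralizer ({(y : G ⧸ N)} : Set (G ⧸ N))).index =
        ((Subgroup.centralizer ({(y : G ⧸ N)} : Set (G ⧸ N))).comap
          (QuotientGroup.mk' N)).index :=
      (Subgroup.index_comap_of_surjective _ (QuotientGroup.mk'_surjective N)).symm
    have h3 := Subgroup.index_mul_card ((Subgroup.centralizer ({(y : G ⧸ N)} :
      Set (G ⧸ N))).comap (QuotientGroup.mk' N))
    rw [← h2, ← card_classFinset, ← h1] at h3
    have h4 : ((classFinset (y : G ⧸ N)).card : ℂ) ≠ 0 := by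
      have hmem : (y : G ⧸ N) ∈ classFinset (y : G ⧸ N) := mem_classFinset.mpr (IsConj.refl _)
      exact_mod_cast (Finset.card_pos.mpr ⟨_, hmem⟩).ne'
    have h5 : ((classFinset (y : G ⧸ N)).card : ℂ) *
        ((Finset.univ.filter (fun x : G => x * y * x⁻¹ * y⁻¹ ∈ N)).card : ℂ) =
        (Nat.card G : ℂ) := by exact_mod_cast h3
    rw [← h5]; field_simp
  have hP : ∀ y : G, (∀ x : G, x⁻¹ * y⁻¹ * x * y ∈ N → x * y = y * x) ↔
      (∃ g : G, ConjClasses.mk (g : G ⧸ N) = ConjClasses.mk (y : G ⧸ N) ∧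
        ∀ x : G, x⁻¹ * g⁻¹ * x * g ∈ N → x * g = g * x) := by
    intro y
    constructor
    · intro h; exact ⟨y, rfl, h⟩
    · rintro ⟨g, hg, hsp⟩
      rw [ConjClasses.mk_eq_mk_iff_isConj, isConj_iff] at hg
      obtain ⟨cq, hcq⟩ := hg
      obtain ⟨c, rfl⟩ := QuotientGroup.mk_surjective cq
      rw [← QuotientGroup.mk_inv, ← QuotientGroup.mk_mul, ← QuotientGroup.mk_mul,
        QuotientGroup.eq] at hcq
      -- n := (c g c⁻¹)⁻¹ * y ∈ N
      obtain ⟨n, hn⟩ : ∃ n : N, (n : G) = (c * g * c⁻¹)⁻¹ * y := ⟨⟨_, hcq⟩, rfl⟩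
      have hy : y = c * g * c⁻¹ * n := by rw [hn]; group
      intro x hx
      have hx' : (c⁻¹ * x * c)⁻¹ * g⁻¹ * (c⁻¹ * x * c) * g ∈ N := by
        have e1 : (c⁻¹ * x * c)⁻¹ * g⁻¹ * (c⁻¹ * x * c) * g =
            c⁻¹ * (x⁻¹ * (c * g * c⁻¹)⁻¹ * x * (c * g * c⁻¹)) * c⁻¹⁻¹ := by group
        rw [e1]
        apply hNn.conj_mem
        have e2 : x⁻¹ * y⁻¹ * x * y = x⁻¹ * (c * g * c⁻¹)⁻¹ * x * (c * g * c⁻¹) := by
          rw [hy]
          have e3 : x⁻¹ * (c * g * c⁻¹ * (n : G))⁻¹ * x * (c * g * c⁻¹ * (n : G)) =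
              x⁻¹ * ((n : G)⁻¹ * (((c * g * c⁻¹)⁻¹ * x * (c * g * c⁻¹)) * (n : G))) := by group
          rw [e3, hcen n ((c * g * c⁻¹)⁻¹ * x * (c * g * c⁻¹)), inv_mul_cancel_left]
          group
        rw [← e2]; exact hx
      have h1 := hsp _ hx'
      -- c⁻¹ x c g = g c⁻¹ x c → x (c g c⁻¹) = (c g c⁻¹) x
      have h2 : x * (c * g * c⁻¹) = (c * g * c⁻¹) * x := by
        have e4 : x * (c * g * c⁻¹) = c * ((c⁻¹ * x * c) * g) * c⁻¹ := by group
        rw [e4, h1]; group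
      rw [hy]
      calc x * (c * g * c⁻¹ * (n : G)) = (x * (c * g * c⁻¹)) * (n : G) := by group
        _ = (c * g * c⁻¹ * x) * (n : G) := by rw [h2]
        _ = c * g * c⁻¹ * (x * (n : G)) := by group
        _ = c * g * c⁻¹ * ((n : G) * x) := by rw [hcen n x]
        _ = (c * g * c⁻¹ * (n : G)) * x := by group
  have hfinal : ∑ y : G, (if (∀ x : G, x⁻¹ * y⁻¹ * x * y ∈ N → x * y = y * x) then
        ((Finset.univ.filter (fun x : G => x * y * x⁻¹ * y⁻¹ ∈ N)).card : ℂ) else 0) =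
      (Nat.card G : ℂ) * (Nat.card N : ℂ) *
        (Nat.card {C : ConjClasses (G ⧸ N) // ∃ g : G, ConjClasses.mk (g : G ⧸ N) = C ∧
          ∀ x : G, x⁻¹ * g⁻¹ * x * g ∈ N → x * g = g * x} : ℂ) := by
    rw [card_conjClasses_pred, mul_assoc, ← sum_comp_mk N, Finset.mul_sum]
    apply Finset.sum_congr rfl
    intro y _
    by_cases hsp : ∀ x : G, x⁻¹ * y⁻¹ * x * y ∈ N → x * y = y * x
    · rw [if_pos hsp, if_pos ((hP y).mp hsp), hb y]
    · rw [if_neg hsp, if_neg (fun h => hsp ((hP y).mpr h)), mul_zero]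
  have hall : (Nat.card {χ : IrrCharacter G //
      classInner (fun n : N => (χ : G → ℂ) n) (ψ : N → ℂ) ≠ 0} : ℂ) =
      (Nat.card {C : ConjClasses (G ⧸ N) // ∃ g : G, ConjClasses.mk (g : G ⧸ N) = C ∧
          ∀ x : G, x⁻¹ * g⁻¹ * x * g ∈ N → x * g = g * x} : ℂ) := by
    rw [hcount, hstep2, hstep2b, Finset.sum_congr rfl (fun y _ => hstep2c y), hfinal]
    field_simp
  exact_mod_cast hall

end Cfsg.Agent.Lib.Lead
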